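import Groth.Agent.FinCritLib.Main

/-! The codimension-one hypothesis gives finiteness in one degree. -/

set_option autoImplicit false
universe u

open CategoryTheory

namespace Groth.Agent.FinCritLib

variable {R : Type u} [CommRing R] [IsNoetherianRing R]
variable {M : ModuleCat.{u} R} (P : ProjectiveResolution M) (D : ℕ)

omit [IsNoetherianRing R] in
lemma exists_smul_boundary {n p : ℕ} (hp : p + 1 = n) (f : P.complex.X n ⟶ ModuleCat.of R R)
    (hf : P.complex.d (n + 1) n ≫ f = 0) (hzero : P.extMk f (n + 1) rfl hf = 0) :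
    ∃ g : P.complex.X p ⟶ ModuleCat.of R R, P.complex.d n p ≫ g = f :=
  (P.extMk_eq_zero_iff f _ rfl hf p hp).mp hzero

omit [IsNoetherianRing R] in
lemma eq_zero_of_extMk_eq_zero {n : ℕ} (hn : n = 0) (f : P.complex.X n ⟶ ModuleCat.of R R)
    (hf : P.complex.d (n + 1) n ≫ f = 0) (hzero : P.extMk f (n + 1) rfl hf = 0) : f = 0 := by
  subst hn
  have h := LocCohLib.newMk_zero_injective P (ModuleCat.of R R)
    (a₁ := ⟨f, hf⟩) (a₂ := 0) (by rw [map_zero]; exact hzero)
  exact congrArg Subtype.val h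

omit [IsNoetherianRing R] in
/-- A localised `Ext` controls the homology of the reversed dual. -/
lemma notMem_support_Hm (hzero : ∀ k, D < k → Subsingleton (P.complex.X k)) (c : ℕ) (hc : c ≤ D)
    (Q : PrimeSpectrum R)
    (h : Subsingleton (LocalizedModule Q.asIdeal.primeCompl (Abelian.Ext.{u} M (ModuleCat.of R R) (kk D c)))) :
    Q ∉ Module.support R (Hm (rdQ P D) c) := by
  rw [Module.notMem_support_iff']
  intro z
  obtain ⟨⟨φ, hφ⟩, rfl⟩ := Submodule.Quotient.mk_surjective _ z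
  have hcoc : P.complex.d (kk D c + 1) (kk D c) ≫ ModuleCat.ofHom φ = 0 := by
    rcases c with _ | c'
    · haveI : Subsingleton (P.complex.X (kk D 0 + 1)) := hzero _ (by simp [kk])
      exact (ModuleCat.isZero_of_subsingleton _).eq_of_src _ _
    · rw [kk_succ D hc]
      ext x
      exact LinearMap.congr_fun (show φ ∘ₗ re P D c' = 0 from hφ) x
  obtain ⟨r, hr, hrx⟩ := LocalizedModule.subsingleton_iff.mp h (P.extMk (ModuleCat.ofHom φ) _ rfl hcoc)
  refine ⟨r, hr, ?_⟩
  rw [← Submodule.Quotient.mk_smul, Submodule.Quotient.mk_eq_zero]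
  change r • φ ∈ LinearMap.range (rdQ P D c)
  have hcoc' : P.complex.d (kk D c + 1) (kk D c) ≫ ModuleCat.ofHom (r • φ) = 0 := by
    rw [show ModuleCat.ofHom (r • φ) = r • ModuleCat.ofHom φ from rfl, Linear.comp_smul, hcoc, smul_zero]
  have hzero' : P.extMk (ModuleCat.ofHom (r • φ)) _ rfl hcoc' = 0 := by
    rw [← hrx]
    exact (LocCohLib.newMk P (ModuleCat.of R R) (kk D c)).map_smul r ⟨_, hcoc⟩
  rcases hc.eq_or_lt with rfl | hlt
  · rw [show r • φ = 0 from congrArg ModuleCat.Hom.hom (eq_zero_of_extMk_eq_zero P (kk_top c) _ hcoc' hzero')]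
    exact zero_mem _
  · obtain ⟨g, hg⟩ := exists_smul_boundary P (kk_succ D hlt) _ hcoc' hzero'
    exact ⟨g.hom, congrArg ModuleCat.Hom.hom hg⟩

variable (I : Ideal R)

/-- A prime of the torsion-free part generalises to one of the support off `V(I)`. -/
lemma exists_off_of_support (E : Type u) [AddCommGroup E] [Module R E] [Module.Finite R E] (Q : PrimeSpectrum R)
    (hQ : Q ∈ Module.support R (E ⧸ DRing.torsionSub I E)) :
    ∃ P ∈ Module.support R E, P ≤ Q ∧ ¬ I ≤ P.asIdeal := by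
  by_contra hno
  push Not at hno
  -- the ideal of elements killing `E` at `Q`
  let J : Ideal R :=
    { carrier := {a | ∃ s : R, s ∉ Q.asIdeal ∧ s * a ∈ Module.annihilator R E}
      zero_mem' := ⟨1, fun h => Q.2.ne_top ((Ideal.eq_top_iff_one _).mpr h), by simp⟩
      add_mem' := fun {a b} ⟨s, hs, hsa⟩ ⟨t, ht, htb⟩ => ⟨s * t, fun h => (Q.2.mem_or_mem h).elim hs ht, by
        have := add_mem (Ideal.mul_mem_left _ t hsa) (Ideal.mul_mem_left _ s htb)
        convert this using 1; ring⟩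
      smul_mem' := fun x a ⟨s, hs, hsa⟩ => ⟨s, hs, by
        have := Ideal.mul_mem_left _ x hsa
        convert this using 1; simp; ring⟩ }
  have hIJ : I ≤ J.radical := by
    intro x hx
    by_contra hxJ
    have hdisj : Disjoint (J : Set R) (Q.asIdeal.primeCompl ⊔ Submonoid.powers x : Submonoid R) := by
      refine Set.disjoint_left.mpr fun a ⟨s, hs, hsa⟩ ha => hxJ ?_
      obtain ⟨t, ht, _, ⟨k, rfl⟩, rfl⟩ := Submonoid.mem_sup.mp ha
      exact ⟨k, s * t, fun h => (Q.2.mem_or_mem h).elim hs ht, by rw [mul_assoc]; exact hsa⟩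
    obtain ⟨p, hp, hJp, hpd⟩ := Ideal.exists_le_prime_disjoint J _ hdisj
    have hpQ : p ≤ Q.asIdeal := fun a ha => by
      by_contra haQ
      exact Set.disjoint_left.mp hpd ha (Submonoid.mem_sup_left (show a ∈ Q.asIdeal.primeCompl from haQ))
    refine Set.disjoint_left.mp hpd (hno ⟨p, hp⟩ (Module.mem_support_iff_of_finite.mpr fun e he =>
      hJp ⟨1, fun h => Q.2.ne_top ((Ideal.eq_top_iff_one _).mpr h), by simpa using he⟩) hpQ hx)
      (Submonoid.mem_sup_right (Submonoid.mem_powers x))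
  obtain ⟨k, hk⟩ := Ideal.exists_pow_le_of_le_radical_of_fg hIJ (IsNoetherian.noetherian I)
  obtain ⟨T, hT⟩ := IsNoetherian.noetherian (I ^ k)
  classical
  choose! s hs hsa using fun a (ha : a ∈ T) => (hk (hT ▸ Submodule.subset_span ha) : a ∈ J)
  let s₀ := ∏ a ∈ T, s a
  have hs₀ : s₀ ∉ Q.asIdeal := fun h => by
    obtain ⟨a, ha, h'⟩ := (Ideal.IsPrime.prod_mem_iff).mp h
    exact hs a ha h'
  refine absurd hQ (Module.notMem_support_iff'.mpr fun z => ⟨s₀, hs₀, ?_⟩)
  obtain ⟨z, rfl⟩ := Submodule.Quotient.mk_surjective _ z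
  rw [← Submodule.Quotient.mk_smul, Submodule.Quotient.mk_eq_zero]
  refine ⟨k, fun a ha => ?_⟩
  rw [← mul_smul]
  refine Module.mem_annihilator.mp ?_ z
  have hle : I ^ k ≤ (Module.annihilator R E).colon {s₀} := by
    rw [← hT, Submodule.span_le]
    intro b hb
    rw [SetLike.mem_coe, Submodule.mem_colon_singleton, smul_eq_mul, mul_comm,
      show s₀ = (∏ c ∈ T.erase b, s c) * s b from (Finset.prod_erase_mul T s hb).symm, mul_assoc]
    exact Ideal.mul_mem_left _ _ (hsa b hb)
  have := Submodule.mem_colon_singleton.mp (hle ha)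
  rwa [smul_eq_mul] at this

/-- The criterion over `R`. -/
theorem finite_H_succ (hR : LocCoh.IsGorensteinRing R) (hfin : ∀ k, Module.Finite R (P.complex.X k))
    (hzero : ∀ k, D < k → Subsingleton (P.complex.X k)) [Module.Finite R M] (j : ℕ)
    (h : ∀ p q : PrimeSpectrum R, p ≤ q → ¬ I ≤ p.asIdeal → I ≤ q.asIdeal →
      q.asIdeal.height = p.asIdeal.height + 1 → Subsingleton (GorLib.LocH p.asIdeal j M)) :
    Module.Finite R (LocCoh.H I (j + 1) M) := by
  haveI : ∀ c, Module.Finite R (RQ P D c) := fun c => (finite_RQ P D hfin c).1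
  let Jr := injectiveResolution (ModuleCat.of R R)
  refine finite_of_finMod P D Jr I j hfin hzero (finMod_cyc (rdQ P D) (gtd Jr I) (rdQ_comp P D)
    (gtd_comp Jr I) (gt_injective Jr I) _ fun c b hcb => ?_)
  haveI : Module.Finite R (Hm (rdQ P D) c) := by
    haveI : Module.Finite R (zQ (rdQ P D) c) := Module.Finite.of_fg (IsNoetherian.noetherian _)
    infer_instance
  refine finMod_gammaHom Jr I hR _ b fun Q hIQ hQ hht => ?_
  obtain ⟨P₀, hP₀, hP₀Q, hIP₀⟩ := exists_off_of_support I _ Q hQ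
  obtain ⟨P', hP₀P', hP'Q, hIP', hht'⟩ := exists_height_succ hR I P₀ Q hP₀Q hIP₀ hIQ
  rcases lt_or_ge D c with hDc | hcD
  · haveI := subsingleton_RQ P D hzero hDc
    exact absurd hP₀ (Module.notMem_support_iff'.mpr fun z => ⟨1, P₀.asIdeal.primeCompl.one_mem, by
      obtain ⟨z, rfl⟩ := Submodule.Quotient.mk_surjective _ z
      rw [Subsingleton.elim z 0, Submodule.Quotient.mk_zero, smul_zero]⟩)
  obtain ⟨n, hn⟩ := GorLib.exists_height_eq P'.asIdeal
  rw [hht, hn] at hht'
  have hbn : b = n + 1 := by exact_mod_cast hht'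
  have hkk : kk D c + j = n := by
    simp only [kk, if_pos hcD]
    omega
  have hsub := (GorLib.subsingleton_localized_ext_iff hR P'.asIdeal M (kk D c) j n hn hkk).mpr
    (h P' Q hP'Q hIP' hIQ (by rw [hht, hn, hbn]; rfl))
  exact notMem_support_Hm P D hzero c hcD P' hsub (Module.mem_support_mono hP₀P' hP₀)

end Groth.Agent.FinCritLib
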