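import Mathlib

/-! Bounded resolutions by finite projective modules. -/

set_option autoImplicit false
universe u

open CategoryTheory Limits

namespace Groth.Agent.FinCritLib

variable {R : Type u} [CommRing R]

/-- A resolution by finite projective modules vanishing above `D`, elementwise. -/
structure FRes (M : ModuleCat.{u} R) (D : ℕ) where
  X : ℕ → ModuleCat.{u} R
  d : ∀ k, X (k + 1) ⟶ X k
  ε : X 0 ⟶ M
  fin : ∀ k, Module.Finite R (X k)
  proj : ∀ k, Projective (X k)
  zero : ∀ k, D < k → Subsingleton (X k)
  comp : ∀ k, d (k + 1) ≫ d k = 0
  compε : d 0 ≫ ε = 0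
  surj : Function.Surjective ε.hom
  exact0 : ∀ x, ε.hom x = 0 → ∃ y, (d 0).hom y = x
  exact : ∀ k x, (d k).hom x = 0 → ∃ y, (d (k + 1)).hom y = x

theorem nonempty_fRes [IsNoetherianRing R] : ∀ (D : ℕ) (M : ModuleCat.{u} R) [Module.Finite R M],
    HasProjectiveDimensionLE M D → Nonempty (FRes M D) := by
  intro D
  induction D with
  | zero =>
    intro M _ hM
    haveI : Projective M := (projective_iff_hasProjectiveDimensionLE_zero M).mpr hM
    haveI hs : Subsingleton (ModuleCat.of R PUnit.{u + 1}) := inferInstanceAs (Subsingleton PUnit)
    let Z : ModuleCat.{u} R := ModuleCat.of R PUnit.{u + 1}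
    exact ⟨{ X := fun k => match k with | 0 => M | _ + 1 => Z
             d := fun k => 0
             ε := 𝟙 M
             fin := fun k => match k with
               | 0 => (inferInstance : Module.Finite R M)
               | _ + 1 => (inferInstance : Module.Finite R Z)
             proj := fun k => match k with
               | 0 => (inferInstance : Projective M)
               | _ + 1 => IsZero.projective (ModuleCat.isZero_of_subsingleton Z)
             zero := fun k hk => match k, hk with | _ + 1, _ => hs
             comp := fun _ => comp_zero
             compε := zero_comp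
             surj := Function.surjective_id
             exact0 := fun x hx => ⟨0, hx.symm⟩
             exact := fun k x _ => ⟨0, (hs.elim x _).symm⟩ }⟩
  | succ D ih =>
    intro M _ hM
    rcases Module.exists_finite_presentation R M with ⟨P, _, _, _, _, f, surjf⟩
    have hS := LinearMap.shortExact_shortComplexKer surjf
    have hP : Projective (ModuleCat.of R P) := ModuleCat.projective_of_categoryTheory_projective f.shortComplexKer.X₂
    let K : ModuleCat.{u} R := ModuleCat.of R (LinearMap.ker f)
    haveI : Module.Finite R K := Module.Finite.of_fg (IsNoetherian.noetherian (LinearMap.ker f))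
    obtain ⟨F⟩ := ih K ((hS.hasProjectiveDimensionLT_X₃_iff D hP).mp hM)
    exact ⟨{ X := fun k => match k with | 0 => ModuleCat.of R P | k + 1 => F.X k
             d := fun k => match k with
               | 0 => F.ε ≫ ModuleCat.ofHom (LinearMap.ker f).subtype
               | k + 1 => F.d k
             ε := ModuleCat.ofHom f
             fin := fun k => match k with
               | 0 => (inferInstance : Module.Finite R P)
               | k + 1 => F.fin k
             proj := fun k => match k with | 0 => hP | k + 1 => F.proj k
             zero := fun k hk => match k, hk with | k + 1, hk => F.zero k (by omega)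
             comp := fun k => match k with
               | 0 => by
                 change F.d 0 ≫ F.ε ≫ _ = 0
                 rw [← Category.assoc, F.compε, zero_comp]
               | k + 1 => F.comp k
             compε := by
               ext x
               exact (F.ε.hom x).2
             surj := surjf
             exact0 := fun x hx => by
               obtain ⟨y, hy⟩ := F.surj ⟨x, hx⟩
               exact ⟨y, congrArg Subtype.val hy⟩
             exact := fun k => match k with
               | 0 => fun x hx => F.exact0 x (Subtype.ext hx)
               | k + 1 => F.exact k }⟩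

/-- The resolution as a `ProjectiveResolution`. -/
theorem exists_projectiveResolution {M : ModuleCat.{u} R} {D : ℕ} (F : FRes M D) :
    ∃ P : ProjectiveResolution M, (∀ k, Module.Finite R (P.complex.X k)) ∧
      ∀ k, D < k → Subsingleton (P.complex.X k) := by
  let C : ChainComplex (ModuleCat.{u} R) ℕ := ChainComplex.of F.X F.d F.comp
  have hd : ∀ k, C.d (k + 1) k = F.d k := fun k => ChainComplex.of_d _ _ k
  have hε : C.d 1 0 ≫ F.ε = 0 := by rw [hd 0]; exact F.compε
  refine ⟨{ complex := C
            projective := F.proj
            π := (ChainComplex.toSingle₀Equiv C M).symm ⟨F.ε, hε⟩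
            quasiIso := ⟨fun n => ?_⟩ }, F.fin, F.zero⟩
  cases n with
  | zero =>
    rw [ChainComplex.quasiIsoAt₀_iff, ShortComplex.quasiIso_iff_of_zeros']
    · refine (ShortComplex.exact_and_epi_g_iff_of_iso
        (S₂ := ShortComplex.mk (C.d 1 0) F.ε hε) ?_).2 ⟨?_, (ModuleCat.epi_iff_surjective _).mpr F.surj⟩
      · exact ShortComplex.isoMk (Iso.refl _) (Iso.refl _) (Iso.refl _)
          ((Category.id_comp _).trans (Category.comp_id _).symm)
          ((Category.id_comp _).trans (Category.comp_id _).symm)
      · exact (ShortComplex.moduleCat_exact_iff _).mpr fun x hx => by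
          obtain ⟨y, hy⟩ := F.exact0 x hx
          exact ⟨y, by rw [← hd 0] at hy; exact hy⟩
    all_goals first | rfl | exact C.shape _ _ (by simp)
  | succ n =>
    rw [quasiIsoAt_iff_exactAt']
    · rw [HomologicalComplex.exactAt_iff' _ (n + 2) (n + 1) n (by simp) (by simp),
        ShortComplex.moduleCat_exact_iff]
      intro x hx
      change (C.d (n + 1) n).hom x = 0 at hx
      rw [hd n] at hx
      obtain ⟨y, hy⟩ := F.exact n x hx
      exact ⟨y, by rw [← hd (n + 1)] at hy; exact hy⟩
    · exact ChainComplex.exactAt_succ_single_obj _ _

variable {M : ModuleCat.{u} R} (P : ProjectiveResolution M)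

lemma exact_of_succ {i j k : ℕ} (hij : j + 1 = i) (hjk : k + 1 = j) (x : P.complex.X j)
    (hx : (P.complex.d j k).hom x = 0) : ∃ y, (P.complex.d i j).hom y = x := by
  subst hij hjk
  exact (ShortComplex.moduleCat_exact_iff _).mp (P.exact_succ k) x hx

lemma exists_augmentation : ∀ k, k = 0 → ∃ p : (P.complex.X k : Type u) →ₗ[R] (M : Type u),
    Function.Surjective p ∧ (∀ i y, p ((P.complex.d i k).hom y) = 0) ∧
      ∀ x, p x = 0 → ∀ i, i = k + 1 → ∃ y, (P.complex.d i k).hom y = x := by
  rintro _ rfl
  refine ⟨(P.π.f 0).hom, (ModuleCat.epi_iff_surjective _).mp inferInstance, fun i y => ?_, ?_⟩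
  · by_cases h : i = 1
    · subst h
      exact congr($(P.complex_d_comp_π_f_zero).hom y)
    · rw [P.complex.shape i 0 (by simpa using (fun h' : 1 = i => h h'.symm))]
      exact map_zero _
  · rintro x hx _ rfl
    exact (ShortComplex.moduleCat_exact_iff _).mp P.exact₀ x hx

end Groth.Agent.FinCritLib
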