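import Groth.Agent.FinCritLib.TotHom
import Groth.Agent.FinCritLib.Resol
import Groth.Agent.InjHullLib.Basic

/-! The reversed dual of a bounded resolution, and injectivity of the total `Hom` modules. -/

set_option autoImplicit false
universe u

open CategoryTheory

namespace Groth.Agent.FinCritLib

variable {R : Type u} [CommRing R]
variable {M : ModuleCat.{u} R} (P : ProjectiveResolution M) (D : ℕ)

/-- The reversed index. -/
def kk (c : ℕ) : ℕ := if c ≤ D then D - c else D + 1

lemma kk_top : kk D D = 0 := by simp [kk]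

lemma kk_succ {c : ℕ} (h : c + 1 ≤ D) : kk D (c + 1) + 1 = kk D c := by
  simp only [kk, if_pos h, if_pos (show c ≤ D by omega)]; omega

lemma kk_gt {c : ℕ} (h : D < c) : kk D c = D + 1 := by simp [kk, not_le.mpr h]

/-- The reversed resolution. -/
abbrev RX (c : ℕ) : Type u := P.complex.X (kk D c)

/-- Its differential. -/
noncomputable def re (c : ℕ) : RX P D c →ₗ[R] RX P D (c + 1) := (P.complex.d (kk D c) (kk D (c + 1))).hom

/-- Its dual. -/
abbrev RQ (c : ℕ) : Type u := RX P D c →ₗ[R] R

/-- The differential of the dual. -/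
noncomputable def rdQ (c : ℕ) : RQ P D (c + 1) →ₗ[R] RQ P D c := LinearMap.lcomp R R (re P D c)

lemma rdQ_comp (c : ℕ) : rdQ P D c ∘ₗ rdQ P D (c + 1) = 0 := by
  refine LinearMap.ext fun φ => LinearMap.ext fun x => ?_
  change φ (re P D (c + 1) (re P D c x)) = 0
  rw [show re P D (c + 1) (re P D c x) = 0 from
    congr($(P.complex.d_comp_d (kk D c) (kk D (c + 1)) (kk D (c + 1 + 1))).hom x), map_zero]

variable (hfin : ∀ k, Module.Finite R (P.complex.X k)) (hzero : ∀ k, D < k → Subsingleton (P.complex.X k))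

include hzero in
lemma subsingleton_RX {c : ℕ} (h : D < c) : Subsingleton (RX P D c) := hzero _ (by rw [kk_gt D h]; omega)

include hzero in
lemma subsingleton_RQ {c : ℕ} (h : D < c) : Subsingleton (RQ P D c) := by
  haveI := subsingleton_RX P D hzero h
  exact ⟨fun a b => LinearMap.ext fun x => by rw [Subsingleton.elim x 0, map_zero, map_zero]⟩

lemma projective_RX (c : ℕ) : Module.Projective R (RX P D c) :=
  (IsProjective.iff_projective (R := R) (RX P D c)).mpr (P.projective (kk D c))

include hfin in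
lemma bijective_eval (c : ℕ) : Function.Bijective (Module.Dual.eval R (RX P D c)) := by
  haveI : Module.Finite R (RX P D c) := hfin _
  haveI := projective_RX P D c
  exact (Module.evalEquiv R (RX P D c)).bijective

include hfin in
lemma finite_RQ (c : ℕ) : Module.Finite R (RQ P D c) ∧ Module.Projective R (RQ P D c) := by
  haveI : Module.Finite R (RX P D c) := hfin _
  haveI := projective_RX P D c
  exact ⟨(inferInstance : Module.Finite R (Module.Dual R (RX P D c))),
    (inferInstance : Module.Projective R (Module.Dual R (RX P D c)))⟩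

include hfin in
/-- A functional on the dual killing boundaries is evaluation at a cycle. -/
lemma exists_cycle {m : ℕ} (g : RQ P D m →ₗ[R] R) (hg : g ∘ₗ rdQ P D m = 0) :
    ∃ x, re P D m x = 0 ∧ g = Module.Dual.eval R (RX P D m) x := by
  obtain ⟨x, rfl⟩ := (bijective_eval P D hfin m).2 g
  refine ⟨x, (bijective_eval P D hfin (m + 1)).1 ?_, rfl⟩
  rw [map_zero]
  exact LinearMap.ext fun φ => LinearMap.congr_fun hg φ

include hzero in
lemma re_injective (hD : 0 < D) (x : RX P D 0) (hx : re P D 0 x = 0) : x = 0 := by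
  have h := kk_succ D (c := 0) hD
  obtain ⟨y, rfl⟩ := exact_of_succ P (i := kk D 0 + 1) rfl h x hx
  haveI : Subsingleton (P.complex.X (kk D 0 + 1)) := hzero _ (by simp [kk])
  rw [Subsingleton.elim y 0, map_zero]

include hzero in
lemma re_exact {c : ℕ} (hc : c + 1 ≠ D) (x : RX P D (c + 1)) (hx : re P D (c + 1) x = 0) :
    ∃ y, re P D c y = x := by
  rcases lt_or_gt_of_ne hc with h | h
  · exact exact_of_succ P (kk_succ D h.le) (kk_succ D h) x hx
  · haveI := subsingleton_RX P D hzero h
    exact ⟨0, Subsingleton.elim _ _⟩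

include hzero in
/-- The augmentation at the end. -/
lemma exists_end : ∃ p : RX P D D →ₗ[R] (M : Type u), Function.Surjective p ∧
    (∀ c (h : c + 1 = D) y, p (h ▸ re P D c y) = 0) ∧
    ∀ x, p x = 0 → x = 0 ∨ ∃ c, ∃ h : c + 1 = D, ∃ y, h ▸ re P D c y = x := by
  obtain ⟨p, hp, hp0, hpk⟩ := exists_augmentation P (kk D D) (kk_top D)
  refine ⟨p, hp, ?_, fun x hx => ?_⟩
  · rintro c rfl y
    exact hp0 _ y
  · rcases Nat.eq_zero_or_pos D with h0 | h0
    · left
      obtain ⟨y, rfl⟩ := hpk x hx (kk D D + 1) rfl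
      haveI : Subsingleton (P.complex.X (kk D D + 1)) := hzero _ (by simp [kk_top, h0])
      rw [Subsingleton.elim y 0, map_zero]
    · obtain ⟨c, rfl⟩ : ∃ c, D = c + 1 := ⟨D - 1, by omega⟩
      exact Or.inr ⟨c, rfl, hpk x hx _ (kk_succ (c + 1) le_rfl).symm⟩

/-! ### Injectivity -/

theorem injective_hom (Q T : Type u) [AddCommGroup Q] [Module R Q] [Module.Flat R Q] [AddCommGroup T] [Module R T]
    [Module.Injective R T] : Module.Injective R (Q →ₗ[R] T) := by
  refine ⟨fun A B _ _ _ _ f hf g => ?_⟩
  obtain ⟨h, hh⟩ := Module.Injective.out (f.rTensor Q) (Module.Flat.rTensor_preserves_injective_linearMap f hf)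
    (TensorProduct.lift g)
  exact ⟨TensorProduct.curry h, fun a => LinearMap.ext fun q => hh (a ⊗ₜ[R] q)⟩

theorem injective_pi {ι : Type} (X : ι → Type u) [∀ i, AddCommGroup (X i)] [∀ i, Module R (X i)]
    (h : ∀ i, Module.Injective R (X i)) : Module.Injective R (∀ i, X i) := by
  refine ⟨fun A B _ _ _ _ f hf g => ?_⟩
  choose k hk using fun i => (h i).out f hf (LinearMap.proj i ∘ₗ g)
  exact ⟨LinearMap.pi k, fun a => funext fun i => hk i a⟩

theorem injective_quot {W : Type u} [AddCommGroup W] [Module R W] [Module.Injective R W] (B : Submodule R W)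
    [Module.Injective R B] : Module.Injective R (W ⧸ B) := by
  obtain ⟨r, hr⟩ := Module.Injective.out B.subtype Subtype.val_injective (LinearMap.id : B →ₗ[R] B)
  let sec : (W ⧸ B) →ₗ[R] W := B.liftQ (LinearMap.id - B.subtype.comp r) fun x hx => by
    have := congrArg Subtype.val (hr ⟨x, hx⟩)
    simp only [LinearMap.id_apply, Submodule.subtype_apply] at this
    rw [LinearMap.mem_ker, LinearMap.sub_apply, LinearMap.comp_apply, LinearMap.id_apply, Submodule.subtype_apply,
      this, sub_self]
  have hsec : B.mkQ ∘ₗ sec = LinearMap.id := by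
    refine Submodule.linearMap_qext _ (LinearMap.ext fun x => ?_)
    simp [sec]
  exact InjHullLib.injective_of_retract (Q := W) sec B.mkQ hsec

section Tot

variable {Q : ℕ → Type u} [∀ c, AddCommGroup (Q c)] [∀ c, Module R (Q c)]
variable {T : ℕ → Type u} [∀ b, AddCommGroup (T b)] [∀ b, Module R (T b)]

/-- Projection to degree `m`. -/
def degProj (m : ℕ) : Amb R Q T →ₗ[R] deg R Q T m :=
  LinearMap.codRestrict _ (LinearMap.pi fun c => LinearMap.pi fun b =>
    if c + b = m then LinearMap.proj b ∘ₗ LinearMap.proj c else 0) fun f c b h => by simp [h]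

theorem injective_deg (hQ : ∀ c, Module.Flat R (Q c)) (hT : ∀ b, Module.Injective R (T b)) (m : ℕ) :
    Module.Injective R (deg R Q T m) := by
  haveI : Module.Injective R (Amb R Q T) := injective_pi (fun c => ∀ b, Q c →ₗ[R] T b) fun c =>
    injective_pi (fun b => Q c →ₗ[R] T b) fun b => haveI := hQ c; haveI := hT b; injective_hom (Q c) (T b)
  refine InjHullLib.injective_of_retract (Q := Amb R Q T) (deg R Q T m).subtype (degProj m)
    (LinearMap.ext fun f => Subtype.ext (funext fun c => funext fun b => ?_))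
  by_cases h : c + b = m
  · simp [degProj, h]
  · simp [degProj, h, f.2 c b h]

variable (dQ : ∀ c, Q (c + 1) →ₗ[R] Q c) (dT : ∀ b, T b →ₗ[R] T (b + 1))

/-- Boundaries are injective as long as the complex is exact below. -/
theorem injective_bdy (hinj : ∀ m, Module.Injective R (deg R Q T m)) (m : ℕ)
    (hex : ∀ k, k < m → cyc dQ dT k ≤ bdy dQ dT k) (hQ : ∀ c, dQ c ∘ₗ dQ (c + 1) = 0)
    (hT : ∀ b, dT (b + 1) ∘ₗ dT b = 0) :
    Module.Injective R (bdy dQ dT m) := by
  induction m with
  | zero =>
    have h0 : bdy dQ dT 0 = ⊥ := by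
      rw [Submodule.eq_bot_iff]
      rintro _ ⟨f, hf, rfl⟩
      rw [show f = 0 from funext fun c => funext fun b => hf c b (by omega), map_zero]
    haveI : Subsingleton (bdy dQ dT 0) := by rw [h0]; infer_instance
    exact ⟨fun A B _ _ _ _ f _ g => ⟨0, fun a => Subsingleton.elim _ _⟩⟩
  | succ m ih =>
    haveI := hinj m
    let B0 : Submodule R (deg R Q T m) := (bdy dQ dT m).comap (deg R Q T m).subtype
    have hle : bdy dQ dT m ≤ deg R Q T m := by
      rintro _ ⟨f, hf, rfl⟩
      exact tD_mem_deg dQ dT hf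
    haveI := ih fun k hk => hex k (by omega)
    haveI : Module.Injective R B0 := InjHullLib.injective_of_retract (Q := bdy dQ dT m)
      (Submodule.comapSubtypeEquivOfLe hle).toLinearMap (Submodule.comapSubtypeEquivOfLe hle).symm.toLinearMap
      (LinearMap.ext fun x => (Submodule.comapSubtypeEquivOfLe hle).symm_apply_apply x)
    haveI : Module.Injective R (deg R Q T m ⧸ B0) := injective_quot B0
    have hmem : ∀ f : deg R Q T m, tD dQ dT f.1 ∈ bdy dQ dT (m + 1) := fun f =>
      ⟨f.1, by rw [pre_succ]; exact f.2, rfl⟩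
    let φ : (deg R Q T m ⧸ B0) →ₗ[R] bdy dQ dT (m + 1) :=
      B0.liftQ ((tD dQ dT ∘ₗ (deg R Q T m).subtype).codRestrict _ hmem) fun f hf => by
        obtain ⟨h, -, hh⟩ := hf
        refine LinearMap.mem_ker.mpr (Subtype.ext ?_)
        change tD dQ dT f.1 = 0
        rw [show f.1 = tD dQ dT h from hh.symm, tD_tD dQ dT hQ hT]
    have hφ : Function.Bijective φ := by
      refine ⟨?_, fun y => ?_⟩
      · rw [← LinearMap.ker_eq_bot, Submodule.eq_bot_iff]
        intro x hx
        obtain ⟨x, rfl⟩ := Submodule.Quotient.mk_surjective _ x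
        exact (Submodule.Quotient.mk_eq_zero _).mpr
          (show x.1 ∈ bdy dQ dT m from hex m (Nat.lt_succ_self m) ⟨x.2, LinearMap.mem_ker.mpr (congrArg Subtype.val hx)⟩)
      · obtain ⟨f, hf, hfy⟩ := y.2
        rw [SetLike.mem_coe, pre_succ] at hf
        exact ⟨Submodule.Quotient.mk ⟨f, hf⟩, Subtype.ext hfy⟩
    let e := LinearEquiv.ofBijective φ hφ
    exact InjHullLib.injective_of_retract (Q := deg R Q T m ⧸ B0) e.symm.toLinearMap e.toLinearMap
      (LinearMap.ext fun x => e.apply_symm_apply x)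

end Tot

end Groth.Agent.FinCritLib
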