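import Mathlib

/-! The total `Hom` complex of a chain complex into a cochain complex, and a staircase. -/

set_option autoImplicit false
universe u

namespace Groth.Agent.FinCritLib

variable {R : Type u} [CommRing R]

/-- `Z` is finite modulo `B`. -/
def FinMod {X : Type*} [AddCommGroup X] [Module R X] (Z B : Submodule R X) : Prop :=
  ∃ S : Submodule R X, S.FG ∧ S ≤ Z ∧ Z ≤ S ⊔ B

section Tot

variable {Q : ℕ → Type u} [∀ c, AddCommGroup (Q c)] [∀ c, Module R (Q c)]
variable {T : ℕ → Type u} [∀ b, AddCommGroup (T b)] [∀ b, Module R (T b)]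
variable (dQ : ∀ c, Q (c + 1) →ₗ[R] Q c) (dT : ∀ b, T b →ₗ[R] T (b + 1))

variable (R Q T) in
/-- All bidegrees at once. -/
abbrev Amb : Type u := ∀ c b : ℕ, Q c →ₗ[R] T b

/-- The horizontal part of the differential. -/
def tpart (f : Amb R Q T) : Amb R Q T
  | _, 0 => 0
  | c, b + 1 => dT b ∘ₗ f c b

/-- The vertical part of the differential. -/
def spart (f : Amb R Q T) : Amb R Q T
  | 0, _ => 0
  | c + 1, b => f c b ∘ₗ dQ c

/-- The sign. -/
def sg (R : Type u) [CommRing R] (b : ℕ) : R := (-1) ^ b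

lemma sg_succ (b : ℕ) : sg R (b + 1) = - sg R b := by rw [sg, sg, pow_succ, mul_neg_one]

lemma sg_mul_self (b : ℕ) : sg R b * sg R b = 1 := by rw [sg, ← mul_pow, neg_one_mul, neg_neg, one_pow]

/-- The differential. -/
def tD : Amb R Q T →ₗ[R] Amb R Q T where
  toFun f := fun c b => tpart dT f c b + sg R b • spart dQ f c b
  map_add' f g := by
    funext c b
    rcases c with _ | c <;> rcases b with _ | b <;>
      simp [tpart, spart, LinearMap.comp_add, LinearMap.add_comp, smul_add] <;> abel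
  map_smul' r f := by
    funext c b
    rcases c with _ | c <;> rcases b with _ | b <;>
      simp [tpart, spart, LinearMap.comp_smul, LinearMap.smul_comp, smul_add, smul_comm r]

lemma tD_apply (f : Amb R Q T) (c b : ℕ) : tD dQ dT f c b = tpart dT f c b + sg R b • spart dQ f c b := rfl

lemma tD_tD (hQ : ∀ c, dQ c ∘ₗ dQ (c + 1) = 0) (hT : ∀ b, dT (b + 1) ∘ₗ dT b = 0) (f : Amb R Q T) :
    tD dQ dT (tD dQ dT f) = 0 := by
  funext c b
  rcases c with _ | _ | c <;> rcases b with _ | _ | b <;>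
    simp [tD_apply, tpart, spart, LinearMap.comp_add, LinearMap.add_comp, LinearMap.comp_smul,
      LinearMap.smul_comp, ← LinearMap.comp_assoc, hT, sg_succ] <;>
    simp [LinearMap.comp_assoc, hQ]

variable (R Q T) in
/-- Total degree `m`. -/
def deg (m : ℕ) : Submodule R (Amb R Q T) where
  carrier := {f | ∀ c b, c + b ≠ m → f c b = 0}
  zero_mem' := fun _ _ _ => rfl
  add_mem' := fun {f g} hf hg c b h => by simp [hf c b h, hg c b h]
  smul_mem' := fun r f hf c b h => by simp [hf c b h]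

variable (R Q T) in
/-- Total degree `m - 1`. -/
def pre (m : ℕ) : Submodule R (Amb R Q T) where
  carrier := {f | ∀ c b, c + b + 1 ≠ m → f c b = 0}
  zero_mem' := fun _ _ _ => rfl
  add_mem' := fun {f g} hf hg c b h => by simp [hf c b h, hg c b h]
  smul_mem' := fun r f hf c b h => by simp [hf c b h]

lemma pre_succ (m : ℕ) : pre R Q T (m + 1) = deg R Q T m := by
  ext f
  exact ⟨fun h c b hne => h c b (by omega), fun h c b hne => h c b (by omega)⟩

lemma tD_mem_deg {m : ℕ} {f : Amb R Q T} (hf : f ∈ pre R Q T m) : tD dQ dT f ∈ deg R Q T m := by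
  intro c b h
  rcases c with _ | c <;> rcases b with _ | b
  all_goals rw [tD_apply]
  · simp [tpart, spart]
  · simp [tpart, spart, hf 0 b (by omega)]
  · simp [tpart, spart, hf c 0 (by omega)]
  · simp [tpart, spart, hf (c + 1) b (by omega), hf c (b + 1) (by omega)]

/-- Cocycles of degree `m`. -/
def cyc (m : ℕ) : Submodule R (Amb R Q T) := deg R Q T m ⊓ LinearMap.ker (tD dQ dT)

/-- Coboundaries of degree `m`. -/
def bdy (m : ℕ) : Submodule R (Amb R Q T) := (pre R Q T m).map (tD dQ dT)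

lemma tD_mem_cyc (hQ : ∀ c, dQ c ∘ₗ dQ (c + 1) = 0) (hT : ∀ b, dT (b + 1) ∘ₗ dT b = 0) {m : ℕ} {f : Amb R Q T}
    (hf : f ∈ pre R Q T m) : tD dQ dT f ∈ cyc dQ dT m :=
  ⟨tD_mem_deg dQ dT hf, tD_tD dQ dT hQ hT f⟩

/-- A single component. -/
def single (c b : ℕ) (φ : Q c →ₗ[R] T b) : Amb R Q T := Pi.single c (Pi.single b φ)

lemma single_self (c b : ℕ) (φ : Q c →ₗ[R] T b) : single c b φ c b = φ := by simp [single]

lemma single_ne {c b c' b' : ℕ} (φ : Q c →ₗ[R] T b) (h : c' ≠ c ∨ b' ≠ b) : single c b φ c' b' = 0 := by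
  rcases h with h | h
  · simp [single, Pi.single_eq_of_ne h]
  · rcases eq_or_ne c' c with rfl | hc
    · simp [single, Pi.single_eq_of_ne h]
    · simp [single, Pi.single_eq_of_ne hc]

lemma single_mem_pre {c b m : ℕ} (φ : Q c →ₗ[R] T b) (h : c + b + 1 = m) : single c b φ ∈ pre R Q T m :=
  fun c' b' hne => single_ne φ (by omega)

lemma single_mem_deg {c b m : ℕ} (φ : Q c →ₗ[R] T b) (h : c + b = m) : single c b φ ∈ deg R Q T m :=
  fun c' b' hne => single_ne φ (by omega)

lemma tD_single_right (c b : ℕ) (φ : Q c →ₗ[R] T b) :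
    tD dQ dT (single c b φ) c (b + 1) = dT b ∘ₗ φ := by
  rcases c with _ | c
  · simp [tD_apply, tpart, spart, single_self]
  · simp [tD_apply, tpart, spart, single_self, single_ne φ (c' := c) (Or.inl (by omega))]

lemma tD_single_down (c b : ℕ) (φ : Q c →ₗ[R] T b) :
    tD dQ dT (single c b φ) (c + 1) b = sg R b • (φ ∘ₗ dQ c) := by
  rcases b with _ | b
  · simp [tD_apply, tpart, spart, single_self]
  · simp [tD_apply, tpart, spart, single_self, single_ne φ (b' := b) (Or.inr (by omega))]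

lemma tD_single_ne (c b : ℕ) (φ : Q c →ₗ[R] T b) (c' b' : ℕ) (h1 : c' ≠ c ∨ b' ≠ b + 1)
    (h2 : c' ≠ c + 1 ∨ b' ≠ b) : tD dQ dT (single c b φ) c' b' = 0 := by
  rcases c' with _ | c' <;> rcases b' with _ | b'
  all_goals rw [tD_apply]
  · simp [tpart, spart]
  · simp [tpart, spart, single_ne φ (c' := 0) (b' := b') (by omega)]
  · simp [tpart, spart, single_ne φ (c' := c') (b' := 0) (by omega)]
  · simp [tpart, spart, single_ne φ (c' := c' + 1) (b' := b') (by omega),
      single_ne φ (c' := c') (b' := b' + 1) (by omega)]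

/-! ### The homology of the chain complex -/

/-- Cycles of the chain complex. -/
def zQ : ∀ c, Submodule R (Q c)
  | 0 => ⊤
  | c + 1 => LinearMap.ker (dQ c)

/-- The homology of the chain complex. -/
abbrev Hm (c : ℕ) : Type u := zQ dQ c ⧸ (LinearMap.range (dQ c)).comap (zQ dQ c).subtype

variable (E : Type u) [AddCommGroup E] [Module R E]

/-- Composition with the differential. -/
def postd (b : ℕ) : (E →ₗ[R] T b) →ₗ[R] (E →ₗ[R] T (b + 1)) where
  toFun φ := dT b ∘ₗ φ
  map_add' _ _ := LinearMap.comp_add _ _ _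
  map_smul' _ _ := LinearMap.comp_smul _ _ _

/-- Cocycles of `Hom(E, T)`. -/
def homZ (b : ℕ) : Submodule R (E →ₗ[R] T b) := LinearMap.ker (postd dT E b)

/-- Coboundaries of `Hom(E, T)`. -/
def homB : ∀ b, Submodule R (E →ₗ[R] T b)
  | 0 => ⊥
  | b + 1 => LinearMap.range (postd dT E b)

/-- A finitely generated image is the image of a finitely generated submodule. -/
lemma exists_fg_le {X Y : Type*} [AddCommGroup X] [Module R X] [AddCommGroup Y] [Module R Y] (g : X →ₗ[R] Y)
    (W : Submodule R X) (hW : (W.map g).FG) : ∃ S : Submodule R X, S.FG ∧ S ≤ W ∧ W ≤ S ⊔ (W ⊓ LinearMap.ker g) := by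
  classical
  obtain ⟨s, hs⟩ := hW
  have hmem : ∀ y : s, ∃ x ∈ W, g x = y.1 := fun y => Submodule.mem_map.mp (hs ▸ Submodule.subset_span y.2)
  choose x hxW hx using hmem
  refine ⟨Submodule.span R (Set.range x), Submodule.fg_span (Set.finite_range x),
    Submodule.span_le.mpr (by rintro _ ⟨y, rfl⟩; exact hxW y), fun w hw => ?_⟩
  have hle : W.map g ≤ (Submodule.span R (Set.range x)).map g := by
    rw [← hs, Submodule.map_span]
    refine Submodule.span_mono fun y hy => ⟨x ⟨y, hy⟩, ⟨⟨y, hy⟩, rfl⟩, hx ⟨y, hy⟩⟩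
  obtain ⟨v, hv, hvw⟩ := hle ⟨w, hw, rfl⟩
  have hvW : v ∈ W := Submodule.span_le.mpr (by rintro _ ⟨y, rfl⟩; exact hxW y) hv
  rw [← add_sub_cancel v w]
  refine add_mem (Submodule.mem_sup_left hv) (Submodule.mem_sup_right ⟨sub_mem hw hvW, ?_⟩)
  rw [SetLike.mem_coe, LinearMap.mem_ker, map_sub, hvw, sub_self]

variable [IsNoetherianRing R]

/-- The staircase: finiteness for each homology module gives finiteness for the total complex. -/
theorem finMod_cyc (hQ : ∀ c, dQ c ∘ₗ dQ (c + 1) = 0) (hT : ∀ b, dT (b + 1) ∘ₗ dT b = 0)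
    (hinj : ∀ b, Module.Injective R (T b)) (m : ℕ)
    (hfin : ∀ c b, c + b = m → FinMod (homZ dT (Hm dQ c) b) (homB dT (Hm dQ c) b)) :
    FinMod (cyc dQ dT m) (bdy dQ dT m) := by
  classical
  let W : ℕ → Submodule R (Amb R Q T) := fun n =>
    { carrier := {f | f ∈ cyc dQ dT m ∧ ∀ c b, n ≤ c → f c b = 0}
      zero_mem' := ⟨zero_mem _, fun _ _ _ => rfl⟩
      add_mem' := fun {f g} hf hg => ⟨add_mem hf.1 hg.1, fun c b h => by simp [hf.2 c b h, hg.2 c b h]⟩
      smul_mem' := fun r f hf => ⟨Submodule.smul_mem _ r hf.1, fun c b h => by simp [hf.2 c b h]⟩ }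
  suffices key : ∀ n, ∃ S : Submodule R (Amb R Q T), S.FG ∧ S ≤ cyc dQ dT m ∧ W n ≤ S ⊔ bdy dQ dT m by
    obtain ⟨S, hS, hSZ, hSW⟩ := key (m + 1)
    exact ⟨S, hS, hSZ, fun f hf => hSW ⟨hf, fun c b hc => hf.1 c b (by omega)⟩⟩
  have hB : ∀ {f : Amb R Q T}, f ∈ pre R Q T m → tD dQ dT f ∈ bdy dQ dT m := fun hf => ⟨_, hf, rfl⟩
  intro n
  induction n with
  | zero =>
    refine ⟨⊥, Submodule.fg_bot, bot_le, fun f hf => ?_⟩
    rw [show f = 0 from funext fun c => funext fun b => hf.2 c b (Nat.zero_le c)]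
    exact zero_mem _
  | succ c ih =>
    obtain ⟨S₀, hS₀, hS₀Z, hS₀W⟩ := ih
    rcases lt_or_ge m c with hcm | hcm
    · refine ⟨S₀, hS₀, hS₀Z, fun f hf => hS₀W ⟨hf.1, fun c' b hc' => ?_⟩⟩
      exact hf.1.1 c' b (by omega)
    obtain ⟨b, hb⟩ := Nat.exists_eq_add_of_le hcm
    -- the leading component, on homology
    have hker : ∀ f ∈ W (c + 1), (LinearMap.range (dQ c)).comap (zQ dQ c).subtype ≤
        LinearMap.ker ((f c b).domRestrict (zQ dQ c)) := by
      rintro f ⟨⟨-, hf⟩, hf'⟩ x ⟨y, hy⟩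
      have h := congrFun (congrFun hf (c + 1)) b
      have h' : spart dQ f (c + 1) b = f c b ∘ₗ dQ c := rfl
      have ht : tpart dT f (c + 1) b = 0 := by
        rcases b with _ | b
        · rfl
        · simp [tpart, hf' (c + 1) b le_rfl]
      rw [tD_apply, h', ht, zero_add] at h
      have h2 := congrArg (fun φ => sg R b • φ) h
      simp only [smul_smul, sg_mul_self, one_smul, Pi.zero_apply, smul_zero] at h2
      rw [LinearMap.mem_ker, LinearMap.domRestrict_apply, ← (show dQ c y = x.1 from hy)]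
      exact LinearMap.congr_fun h2 y
    let θ : W (c + 1) →ₗ[R] (Hm dQ c →ₗ[R] T b) :=
      { toFun := fun f => Submodule.liftQ _ ((f.1 c b).domRestrict (zQ dQ c)) (hker f.1 f.2)
        map_add' := fun f g => by ext x; rfl
        map_smul' := fun r f => by ext x; rfl }
    have hθZ : ∀ f, θ f ∈ homZ dT (Hm dQ c) b := by
      rintro ⟨f, ⟨-, hf⟩, hf'⟩
      refine LinearMap.mem_ker.mpr (Submodule.linearMap_qext _ (LinearMap.ext fun x => ?_))
      change dT b (f c b x.1) = 0
      have h := LinearMap.congr_fun (congrFun (congrFun hf c) (b + 1)) x.1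
      have hs : spart dQ f c (b + 1) x.1 = 0 := by
        rcases c with _ | c
        · rfl
        · change f c (b + 1) (dQ c x.1) = 0
          rw [show dQ c x.1 = 0 from x.2, map_zero]
      simpa [tD_apply, tpart, hs] using h
    let q := (homB dT (Hm dQ c) b).mkQ
    obtain ⟨S₁, hS₁, hS₁Z, hS₁W⟩ := hfin c b hb.symm
    have hfg : (Submodule.map (q ∘ₗ θ) ⊤).FG := by
      haveI : IsNoetherian R (S₁.map q) := isNoetherian_of_fg_of_noetherian _ (hS₁.map q)
      refine Submodule.FG.of_le (hS₁.map q) ?_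
      rintro _ ⟨f, -, rfl⟩
      obtain ⟨s, hs, β, hβ, hsβ⟩ := Submodule.mem_sup.mp (hS₁W (hθZ f))
      exact ⟨s, hs, by
        rw [LinearMap.comp_apply, ← hsβ, map_add, show q β = 0 from (Submodule.Quotient.mk_eq_zero _).mpr hβ,
          add_zero]⟩
    obtain ⟨S₂, hS₂, -, hS₂W⟩ := exists_fg_le (q ∘ₗ θ) ⊤ hfg
    refine ⟨S₀ ⊔ S₂.map (W (c + 1)).subtype, hS₀.sup (hS₂.map _), sup_le hS₀Z ?_, fun f hf => ?_⟩
    · rintro _ ⟨g, -, rfl⟩
      exact g.2.1
    obtain ⟨v, hv, w, hw, hvw⟩ := Submodule.mem_sup.mp (hS₂W (Submodule.mem_top (x := (⟨f, hf⟩ : W (c + 1)))))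
    rw [show f = (v : Amb R Q T) + w from (congrArg Subtype.val hvw).symm]
    refine add_mem (Submodule.mem_sup_left (Submodule.mem_sup_right ⟨v, hv, rfl⟩)) ?_
    -- kill the leading component
    suffices hcase : ∀ g : W (c + 1), (∀ x : zQ dQ c, g.1 c b x.1 = 0) →
        (g : Amb R Q T) ∈ S₀ ⊔ S₂.map (W (c + 1)).subtype ⊔ bdy dQ dT m by
      have hwθ : θ w ∈ homB dT (Hm dQ c) b := (Submodule.Quotient.mk_eq_zero _).mp hw.2
      rcases b with _ | b'
      · refine hcase w fun x => ?_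
        exact LinearMap.congr_fun (show θ w = 0 from (Submodule.mem_bot R).mp hwθ) (Submodule.Quotient.mk x)
      obtain ⟨ψ, hψ⟩ := hwθ
      let incl : Hm dQ c →ₗ[R] Q c ⧸ LinearMap.range (dQ c) := Submodule.mapQ _ _ (zQ dQ c).subtype le_rfl
      have hincl : Function.Injective incl := by
        rw [← LinearMap.ker_eq_bot, Submodule.eq_bot_iff]
        intro x hx
        obtain ⟨x, rfl⟩ := Submodule.Quotient.mk_surjective _ x
        have hx' : (Submodule.Quotient.mk x.1 : Q c ⧸ LinearMap.range (dQ c)) = 0 := LinearMap.mem_ker.mp hx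
        exact (Submodule.Quotient.mk_eq_zero _).mpr (show x.1 ∈ LinearMap.range (dQ c) from (Submodule.Quotient.mk_eq_zero _).mp hx')
      obtain ⟨χ, hχ⟩ := (hinj b').out incl hincl ψ
      let g : Q c →ₗ[R] T b' := χ ∘ₗ (LinearMap.range (dQ c)).mkQ
      have hg : g ∘ₗ dQ c = 0 := LinearMap.ext fun y => by
        change χ (Submodule.Quotient.mk (dQ c y)) = 0
        rw [(Submodule.Quotient.mk_eq_zero _).mpr (LinearMap.mem_range_self (dQ c) y), map_zero]
      have hpre : single c b' g ∈ pre R Q T m := single_mem_pre g (by omega)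
      have hD : tD dQ dT (single c b' g) ∈ W (c + 1) := by
        refine ⟨tD_mem_cyc dQ dT hQ hT hpre, fun c' b'' hc' => ?_⟩
        by_cases h : c' = c + 1 ∧ b'' = b'
        · obtain ⟨rfl, rfl⟩ := h
          rw [tD_single_down, hg, smul_zero]
        · exact tD_single_ne dQ dT c b' g c' b'' (by omega) (by omega)
      have := hcase (w - ⟨_, hD⟩) fun x => by
        change w.1 c (b' + 1) x.1 - tD dQ dT (single c b' g) c (b' + 1) x.1 = 0
        rw [tD_single_right, sub_eq_zero]
        have h := LinearMap.congr_fun hψ (Submodule.Quotient.mk x)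
        change dT b' (ψ (Submodule.Quotient.mk x)) = w.1 c (b' + 1) x.1 at h
        rw [← h, ← hχ (Submodule.Quotient.mk x)]
        rfl
      rw [show (w : Amb R Q T) = (w - ⟨_, hD⟩ : W (c + 1)).1 + tD dQ dT (single c b' g) from (sub_add_cancel _ _).symm]
      exact add_mem this (Submodule.mem_sup_right (hB hpre))
    rintro ⟨g, hgZ, hg⟩ hgz
    have hWc : ∀ g' : Amb R Q T, g' ∈ W c → g' ∈ S₀ ⊔ S₂.map (W (c + 1)).subtype ⊔ bdy dQ dT m :=
      fun g' hg' => sup_le_sup_right (le_sup_left (a := S₀) (b := S₂.map (W (c + 1)).subtype)) (c := bdy dQ dT m) (hS₀W hg')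
    rcases c with _ | c'
    · refine hWc g ⟨hgZ, fun c' b'' _ => ?_⟩
      rcases c' with _ | c'
      · by_cases h : b'' = b
        · subst h; exact LinearMap.ext fun x => hgz ⟨x, trivial⟩
        · exact hgZ.1 0 b'' (by omega)
      · exact hg (c' + 1) b'' (by omega)
    -- factor through the differential
    let incl := (LinearMap.ker (dQ c')).liftQ (dQ c') le_rfl
    obtain ⟨h₁, hh₁⟩ := (hinj b).out incl (LinearMap.ker_eq_bot.mp (Submodule.ker_liftQ_eq_bot' _ _ rfl))
      ((LinearMap.ker (dQ c')).liftQ (g (c' + 1) b) fun x hx => hgz ⟨x, hx⟩)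
    let h₂ : Q c' →ₗ[R] T b := sg R b • h₁
    have hpre : single c' b h₂ ∈ pre R Q T m := single_mem_pre h₂ (by omega)
    have hmem : g - tD dQ dT (single c' b h₂) ∈ W (c' + 1) := by
      refine ⟨sub_mem hgZ (tD_mem_cyc dQ dT hQ hT hpre), fun c'' b'' hc'' => ?_⟩
      by_cases h : c'' = c' + 1 ∧ b'' = b
      · obtain ⟨rfl, rfl⟩ := h
        refine LinearMap.ext fun x => ?_
        change g (c' + 1) b'' x - tD dQ dT (single c' b'' h₂) (c' + 1) b'' x = 0
        rw [tD_single_down, LinearMap.smul_comp, smul_smul, sg_mul_self, one_smul, sub_eq_zero]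
        exact (hh₁ (Submodule.Quotient.mk x)).symm
      · change g c'' b'' - tD dQ dT (single c' b h₂) c'' b'' = 0
        rw [tD_single_ne dQ dT c' b h₂ c'' b'' (by omega) (by omega), sub_zero]
        by_cases h3 : c'' = c' + 1
        · exact hgZ.1 c'' b'' (by omega)
        · exact hg c'' b'' (by omega)
    change g ∈ _
    rw [show g = (g - tD dQ dT (single c' b h₂)) + tD dQ dT (single c' b h₂) from (sub_add_cancel _ _).symm]
    exact add_mem (hWc _ hmem) (Submodule.mem_sup_right (hB hpre))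

/-! ### Projective columns -/

omit [IsNoetherianRing R] in
/-- With projective sources and an exact augmented target, everything reduces to bidegree `(*, 0)`. -/
theorem exists_reduce (hQ : ∀ c, dQ c ∘ₗ dQ (c + 1) = 0) (hT : ∀ b, dT (b + 1) ∘ₗ dT b = 0)
    (hproj : ∀ c, Module.Projective R (Q c)) {Y : Type u} [AddCommGroup Y] [Module R Y] (ε : Y →ₗ[R] T 0)
    (hε : ∀ x, dT 0 x = 0 → ∃ y, ε y = x) (hex : ∀ b x, dT (b + 1) x = 0 → ∃ y, dT b y = x)
    (m : ℕ) (f : Amb R Q T) (hf : f ∈ deg R Q T m) (hDf : ∀ c b, tD dQ dT f c (b + 1) = 0) :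
    ∃ h ∈ pre R Q T m, ∃ g : Q m →ₗ[R] Y, f = tD dQ dT h + single m 0 (ε ∘ₗ g) := by
  suffices key : ∀ n (f : Amb R Q T), f ∈ deg R Q T m → (∀ c b, tD dQ dT f c (b + 1) = 0) →
      (∀ c b, n < b → f c b = 0) →
      ∃ h ∈ pre R Q T m, ∃ g : Q m →ₗ[R] Y, f = tD dQ dT h + single m 0 (ε ∘ₗ g) from
    key m f hf hDf fun c b hb => hf c b (by omega)
  intro n
  induction n with
  | zero =>
    intro f hf hDf hv
    have htop : ∀ x, dT 0 (f m 0 x) = 0 := fun x => by
      have h := LinearMap.congr_fun (hDf m 0) x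
      have hs : spart dQ f m (0 + 1) = 0 := by
        rcases m with _ | m
        · rfl
        · simp [spart, hv m 1 Nat.one_pos]
      simpa [tD_apply, tpart, hs] using h
    obtain ⟨g, hg⟩ := Module.projective_lifting_property ε.rangeRestrict
      ((f m 0).codRestrict (LinearMap.range ε) fun x => LinearMap.mem_range.mpr (hε _ (htop x)))
      ε.surjective_rangeRestrict
    refine ⟨0, zero_mem _, g, ?_⟩
    rw [map_zero, zero_add]
    funext c b
    by_cases h : c = m ∧ b = 0
    · obtain ⟨rfl, rfl⟩ := h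
      rw [single_self]
      exact LinearMap.ext fun x => (congrArg Subtype.val (LinearMap.congr_fun hg x)).symm
    · rw [single_ne _ (by omega)]
      rcases Nat.eq_zero_or_pos b with rfl | hb
      · exact hf c 0 (by omega)
      · exact hv c b hb
  | succ n ih =>
    intro f hf hDf hv
    rcases lt_or_ge m (n + 1) with hmn | hmn
    · exact ih f hf hDf fun c b hb => if h : n + 1 < b then hv c b h else hf c b (by omega)
    obtain ⟨c, hc⟩ : ∃ c, c + (n + 1) = m := ⟨m - (n + 1), by omega⟩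
    have htop : ∀ x, dT (n + 1) (f c (n + 1) x) = 0 := fun x => by
      have h := LinearMap.congr_fun (hDf c (n + 1)) x
      have hs : spart dQ f c (n + 1 + 1) = 0 := by
        rcases c with _ | c
        · rfl
        · simp [spart, hv c (n + 1 + 1) (by omega)]
      simpa [tD_apply, tpart, hs] using h
    haveI := hproj c
    obtain ⟨ψ, hψ⟩ := Module.projective_lifting_property (dT n).rangeRestrict
      ((f c (n + 1)).codRestrict (LinearMap.range (dT n)) fun x => LinearMap.mem_range.mpr (hex n _ (htop x)))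
      (dT n).surjective_rangeRestrict
    have hpre : single c n ψ ∈ pre R Q T m := single_mem_pre ψ (by omega)
    obtain ⟨h, hh, g, hg⟩ := ih (f - tD dQ dT (single c n ψ))
      (sub_mem hf (tD_mem_deg dQ dT hpre))
      (fun c' b' => by rw [map_sub, tD_tD dQ dT hQ hT, sub_zero]; exact hDf c' b')
      fun c' b' hb' => by
        change f c' b' - tD dQ dT (single c n ψ) c' b' = 0
        by_cases h : c' = c ∧ b' = n + 1
        · obtain ⟨rfl, rfl⟩ := h
          rw [tD_single_right, sub_eq_zero]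
          exact LinearMap.ext fun x => (congrArg Subtype.val (LinearMap.congr_fun hψ x)).symm
        · rw [tD_single_ne dQ dT c n ψ c' b' (by omega) (by omega), sub_zero]
          by_cases h2 : n + 1 < b'
          · exact hv c' b' h2
          · exact hf c' b' (by omega)
    refine ⟨h + single c n ψ, add_mem hh hpre, g, ?_⟩
    rw [map_add, add_right_comm, ← hg, sub_add_cancel]

end Tot

end Groth.Agent.FinCritLib
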