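import Groth.Agent.FinCritLib.Heights
import Groth.Agent.FinCritLib.TotHom
import Groth.Agent.LocCohLib.Torsion
import Groth.Agent.LocCohLib.Gamma
import Groth.Agent.GorLib.Bass

/-! Finiteness of the cohomology of `Hom(E, Γ_I J)` for an injective resolution `J` of a Gorenstein ring. -/

set_option autoImplicit false
universe u

open CategoryTheory

namespace Groth.Agent.FinCritLib

variable {R : Type u} [CommRing R] [IsNoetherianRing R]
variable (Jr : InjectiveResolution (ModuleCat.of R R)) (I : Ideal R)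

/-- `Γ_I J^b`. -/
abbrev GT (b : ℕ) : Type u := DRing.torsionSub I (Jr.cocomplex.X b : Type u)

/-- The differential of `Γ_I J`. -/
noncomputable def gtd (b : ℕ) : GT Jr I b →ₗ[R] GT Jr I (b + 1) :=
  (Jr.cocomplex.d b (b + 1)).hom.restrict fun x hx => by
    obtain ⟨k, hk⟩ := hx
    exact ⟨k, fun a ha => by rw [← map_smul, hk a ha, map_zero]⟩

lemma gtd_apply (b : ℕ) (x : GT Jr I b) : (gtd Jr I b x : Jr.cocomplex.X (b + 1)) = (Jr.cocomplex.d b (b + 1)).hom x.1 := rfl

lemma gtd_comp (b : ℕ) : gtd Jr I (b + 1) ∘ₗ gtd Jr I b = 0 :=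
  LinearMap.ext fun x => Subtype.ext (congr($(Jr.cocomplex.d_comp_d b (b + 1) (b + 1 + 1)).hom x.1))

lemma gt_injective (b : ℕ) : Module.Injective R (GT Jr I b) := by
  haveI : Injective (Jr.cocomplex.X b) := Jr.injective b
  haveI : Module.Injective R (Jr.cocomplex.X b : Type u) := Module.injective_module_of_injective_object R _
  exact LocCohLib.injective_torsionSub I _

/-- Finiteness, if the primes of height `b` in the support of `E` modulo its torsion avoid `V(I)`. -/
theorem finMod_gammaHom (hR : LocCoh.IsGorensteinRing R) (E : Type u) [AddCommGroup E] [Module R E]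
    [Module.Finite R E] (b : ℕ)
    (hcond : ∀ P : PrimeSpectrum R, I ≤ P.asIdeal → P ∈ Module.support R (E ⧸ DRing.torsionSub I E) →
      P.asIdeal.height ≠ b) :
    FinMod (homZ (gtd Jr I) E b) (homB (gtd Jr I) E b) := by
  classical
  rcases b with _ | b
  · -- degree `0`: a submodule of `Hom(E, R)`
    have hinj0 : Function.Injective (Jr.ι.f 0).hom := LocCohLib.ι_zero_injective Jr
    let e : (R : Type u) ≃ₗ[R] LinearMap.range (Jr.ι.f 0).hom := LinearEquiv.ofInjective _ hinj0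
    haveI : Module.Finite R (LinearMap.range (Jr.ι.f 0).hom) := Module.Finite.equiv e
    let Φ : homZ (gtd Jr I) E 0 →ₗ[R] (E →ₗ[R] LinearMap.range (Jr.ι.f 0).hom) :=
      { toFun := fun φ => ((DRing.torsionSub I _).subtype ∘ₗ φ.1).codRestrict _ fun x =>
          LinearMap.mem_range.mpr (LocCohLib.exists_ι_zero Jr _
            (congrArg Subtype.val (LinearMap.congr_fun (LinearMap.mem_ker.mp φ.2) x)))
        map_add' := fun _ _ => rfl
        map_smul' := fun _ _ => rfl }
    have hΦ : Function.Injective Φ := fun φ ψ h => Subtype.ext (LinearMap.ext fun x => Subtype.ext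
      (by exact (congrArg Subtype.val (show Φ φ x = Φ ψ x from LinearMap.congr_fun h x) :)))
    haveI : Module.Finite R (homZ (gtd Jr I) E 0) := Module.Finite.of_injective Φ hΦ
    exact ⟨homZ (gtd Jr I) E 0, Submodule.fg_top _ |>.mp Module.Finite.fg_top, le_rfl, le_sup_left⟩
  let E' := DRing.torsionSub I E
  let X' : ModuleCat.{u} R := ModuleCat.of R E'
  -- restriction to the torsion part
  let res : (E →ₗ[R] GT Jr I (b + 1)) →ₗ[R] (X' ⟶ Jr.cocomplex.X (b + 1)) :=
    { toFun := fun φ => ModuleCat.ofHom ((DRing.torsionSub I _).subtype ∘ₗ φ ∘ₗ E'.subtype)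
      map_add' := fun _ _ => by ext; rfl
      map_smul' := fun _ _ => by ext; rfl }
  have hres : ∀ φ : homZ (gtd Jr I) E (b + 1), res φ.1 ≫ Jr.cocomplex.d (b + 1) (b + 1 + 1) = 0 := fun φ => by
    ext x
    exact congrArg Subtype.val (LinearMap.congr_fun (LinearMap.mem_ker.mp φ.2) x.1)
  let θ : homZ (gtd Jr I) E (b + 1) →ₗ[R] Abelian.Ext.{u} X' (ModuleCat.of R R) (b + 1) :=
    { toFun := fun φ => Jr.extMk (res φ.1) (b + 1 + 1) rfl (hres φ)
      map_add' := fun φ ψ => by
        rw [Jr.add_extMk]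
        congr 1
      map_smul' := fun r φ => by
        rw [RingHom.id_apply, LocCohLib.smul_extMk]
        congr 1 }
  haveI : Module.Finite R X' := Module.Finite.of_fg (IsNoetherian.noetherian E')
  haveI : Module.Finite R (Abelian.Ext.{u} X' (ModuleCat.of R R) (b + 1)) := GorLib.finite_ext (b + 1) X' _
  obtain ⟨S, hS, -, hSW⟩ := exists_fg_le (X := homZ (gtd Jr I) E (b + 1)) (Y := Abelian.Ext.{u} X' (ModuleCat.of R R) (b + 1)) θ ⊤ (IsNoetherian.noetherian _)
  refine ⟨S.map (homZ (gtd Jr I) E (b + 1)).subtype, hS.map _, by rintro _ ⟨x, -, rfl⟩; exact x.2, fun φ hφ => ?_⟩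
  obtain ⟨v, hv, w, hw, hvw⟩ := Submodule.mem_sup.mp (hSW (Submodule.mem_top (x := (⟨φ, hφ⟩ : homZ (gtd Jr I) E (b + 1)))))
  rw [show φ = v.1 + w.1 from (congrArg Subtype.val hvw).symm]
  refine add_mem (Submodule.mem_sup_left ⟨v, hv, rfl⟩) (Submodule.mem_sup_right ?_)
  -- kill the torsion part
  obtain ⟨g, hg⟩ := (Jr.extMk_eq_zero_iff _ _ rfl (hres w) b rfl).mp (LinearMap.mem_ker.mp hw.2)
  let g' : E' →ₗ[R] GT Jr I b := g.hom.codRestrict _ fun x => by
    obtain ⟨k, hk⟩ := x.2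
    exact ⟨k, fun a ha => by rw [← map_smul, show a • x = 0 from Subtype.ext (hk a ha), map_zero]⟩
  obtain ⟨ψ, hψ⟩ := (gt_injective Jr I b).out E'.subtype Subtype.val_injective g'
  let ω : E →ₗ[R] GT Jr I (b + 1) := w.1 - gtd Jr I b ∘ₗ ψ
  have hω : E' ≤ LinearMap.ker ω := fun x hx => by
    refine LinearMap.mem_ker.mpr (Subtype.ext ?_)
    change (w.1 x).1 - (Jr.cocomplex.d b (b + 1)).hom (ψ x).1 = 0
    rw [show ψ x = g' ⟨x, hx⟩ from hψ ⟨x, hx⟩, sub_eq_zero]
    exact congr($(hg.symm).hom (⟨x, hx⟩ : E'))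
  let ω' : (E ⧸ E') →ₗ[R] GT Jr I (b + 1) := E'.liftQ ω hω
  -- the torsion-free part
  obtain ⟨k, hk⟩ := LocCohLib.exists_pow_smul_eq_zero_of_fg I
    (P := LinearMap.range ((DRing.torsionSub I _).subtype ∘ₗ ω'))
    (by rw [LinearMap.range_eq_map]; exact Submodule.FG.map _ Module.Finite.fg_top)
    (by rintro _ ⟨x, rfl⟩; exact (ω' x).2)
  let K : Submodule R (E ⧸ E') := I ^ k • ⊤
  let N := (E ⧸ E') ⧸ K
  let f : N →ₗ[R] (Jr.cocomplex.X (b + 1) : Type u) := K.liftQ ((DRing.torsionSub I _).subtype ∘ₗ ω')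
    (Submodule.smul_le.mpr fun a ha x _ => by
      rw [LinearMap.mem_ker, map_smul]
      exact hk a ha _ ⟨x, rfl⟩)
  have hf : ModuleCat.ofHom f ≫ Jr.cocomplex.d (b + 1) (b + 1 + 1) = 0 := by
    ext x
    change (Jr.cocomplex.d (b + 1) (b + 1 + 1)).hom ((w.1 x).1 - (Jr.cocomplex.d b (b + 1)).hom (ψ x).1) = 0
    rw [map_sub, show (Jr.cocomplex.d (b + 1) (b + 1 + 1)).hom (w.1 x).1 = 0 from
      congrArg Subtype.val (LinearMap.congr_fun (LinearMap.mem_ker.mp w.2) x),
      show (Jr.cocomplex.d (b + 1) (b + 1 + 1)).hom ((Jr.cocomplex.d b (b + 1)).hom (ψ x).1) = 0 from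
        congr($(Jr.cocomplex.d_comp_d b (b + 1) (b + 1 + 1)).hom (ψ x).1), sub_zero]
  haveI : Subsingleton (Abelian.Ext.{u} (ModuleCat.of R N) (ModuleCat.of R R) (b + 1)) := by
    refine subsingleton_ext_of_height_ne hR N (b + 1) fun P hP => hcond P ?_ ?_
    · intro a ha
      refine P.2.mem_of_pow_mem k ?_
      by_contra hPa
      refine absurd hP (Module.notMem_support_iff'.mpr fun z => ⟨a ^ k, hPa, ?_⟩)
      obtain ⟨z, rfl⟩ := Submodule.Quotient.mk_surjective _ z
      rw [← Submodule.Quotient.mk_smul, Submodule.Quotient.mk_eq_zero]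
      exact Submodule.smul_mem_smul (Ideal.pow_mem_pow ha k) trivial
    · exact Module.support_subset_of_surjective K.mkQ K.mkQ_surjective hP
  obtain ⟨h, hh⟩ := (Jr.extMk_eq_zero_iff (ModuleCat.ofHom f) _ rfl hf b rfl).mp (Subsingleton.elim _ _)
  let h' : N →ₗ[R] GT Jr I b := h.hom.codRestrict _ fun x => ⟨k, fun a ha => by
    rw [← map_smul, show a • x = 0 from ?_, map_zero]
    obtain ⟨x, rfl⟩ := Submodule.Quotient.mk_surjective _ x
    rw [← Submodule.Quotient.mk_smul, Submodule.Quotient.mk_eq_zero]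
    exact Submodule.smul_mem_smul ha trivial⟩
  refine ⟨ψ + h' ∘ₗ K.mkQ ∘ₗ E'.mkQ, LinearMap.ext fun x => Subtype.ext ?_⟩
  change (Jr.cocomplex.d b (b + 1)).hom ((ψ x).1 + h.hom (Submodule.Quotient.mk (Submodule.Quotient.mk x))) = (w.1 x).1
  rw [map_add, show (Jr.cocomplex.d b (b + 1)).hom (h.hom (Submodule.Quotient.mk (Submodule.Quotient.mk x))) =
    (w.1 x).1 - (Jr.cocomplex.d b (b + 1)).hom (ψ x).1 from
      congr($(hh).hom (Submodule.Quotient.mk (Submodule.Quotient.mk x)))]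
  exact add_sub_cancel _ _

end Groth.Agent.FinCritLib
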