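import Groth.Agent.GorLib.LocalVanishing
import Groth.Agent.LocCohLib.Vanishing

/-! Primes of prescribed height, and a vanishing of `Ext` by heights, over a Gorenstein ring. -/

set_option autoImplicit false
universe u

namespace Groth.Agent.FinCritLib

open GorLib IsLocalRing

/-- In a Noetherian domain, if the primes strictly between `⊥` and `q` all contain `y ≠ 0`, then `ht q ≤ 1`. -/
lemma height_le_one_of_forall {S : Type u} [CommRing S] [IsNoetherianRing S] [IsDomain S] (q : Ideal S) [q.IsPrime]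
    {y : S} (hy : y ≠ 0) (h : ∀ p : Ideal S, p.IsPrime → p ≠ ⊥ → p < q → y ∈ p) : q.height ≤ 1 := by
  classical
  by_contra hq
  let F := (Ideal.span {y}).minimalPrimes
  have hF : F.Finite := Ideal.finite_minimalPrimes_of_isNoetherianRing S _
  have key : ∀ z ∈ q, z ≠ 0 → ∃ J ∈ F, z ∈ J := by
    intro z hz hz0
    obtain ⟨J, hJ, hJq⟩ := Ideal.exists_minimalPrimes_le (J := q) ((Ideal.span_singleton_le_iff_mem _).mpr hz)
    haveI := hJ.1.1
    have hzJ : z ∈ J := hJ.1.2 (Ideal.mem_span_singleton_self z)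
    have hJ1 : J.height ≤ 1 := Ideal.height_le_one_of_isPrincipal_of_mem_minimalPrimes _ _ hJ
    have hJ0 : J ≠ ⊥ := fun h0 => hz0 (by rwa [h0, Ideal.mem_bot] at hzJ)
    have hJlt : J < q := lt_of_le_of_ne hJq fun he => hq (he ▸ hJ1)
    obtain ⟨J', hJ', hJ'J⟩ := Ideal.exists_minimalPrimes_le (J := J)
      ((Ideal.span_singleton_le_iff_mem _).mpr (h J inferInstance hJ0 hJlt))
    haveI := hJ'.1.1
    refine ⟨J', hJ', ?_⟩
    rcases hJ'J.eq_or_lt with rfl | hlt
    · exact hzJ
    · exfalso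
      have hJ'0 : (⊥ : Ideal S) < J' := bot_lt_iff_ne_bot.mpr fun h0 =>
        hy (by simpa [h0] using hJ'.1.2 (Ideal.mem_span_singleton_self y))
      haveI : (⊥ : Ideal S).IsPrime := Ideal.bot_prime
      have h1 := Ideal.height_add_one_le_of_lt_of_isPrime hJ'0
      have h2 := Ideal.height_add_one_le_of_lt_of_isPrime hlt
      have h3 : (1 : ℕ∞) + 1 ≤ 1 := le_trans (add_le_add_left (le_trans le_add_self h1) 1) (h2.trans hJ1)
      exact absurd h3 (by decide)
  have hFne : F.Nonempty := by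
    obtain ⟨z, hz, hz0⟩ : ∃ z ∈ q, z ≠ 0 := by
      by_contra hall
      push Not at hall
      exact hq (by rw [(Submodule.eq_bot_iff q).mpr hall, Ideal.height_bot]; exact zero_le)
    obtain ⟨J, hJ, -⟩ := key z hz hz0
    exact ⟨J, hJ⟩
  have hsub : (q : Set S) ⊆ ⋃ J ∈ (↑hF.toFinset : Set (Ideal S)), (J : Set S) := by
    intro z hz
    simp only [Set.Finite.coe_toFinset, Set.mem_iUnion]
    rcases eq_or_ne z 0 with rfl | hz0
    · obtain ⟨J, hJ⟩ := hFne
      exact ⟨J, hJ, J.zero_mem⟩
    · obtain ⟨J, hJ, hzJ⟩ := key z hz hz0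
      exact ⟨J, hJ, hzJ⟩
  obtain ⟨J, hJ, hqJ⟩ := (Ideal.subset_union_prime (R := S) (s := hF.toFinset) (f := id) ⊥ ⊥
    (fun J hJ _ _ => (Set.Finite.mem_toFinset hF).mp hJ |>.1.1)).mp hsub
  have hJ' := (Set.Finite.mem_toFinset hF).mp hJ
  haveI := hJ'.1.1
  exact hq ((Ideal.height_mono hqJ).trans (Ideal.height_le_one_of_isPrincipal_of_mem_minimalPrimes _ _ hJ'))

variable {R : Type u} [CommRing R] [IsNoetherianRing R]

/-- Below `Q`, off `V(I)`, above `P`: a prime of height `ht Q - 1`. -/
lemma exists_height_succ (hR : LocCoh.IsGorensteinRing R) (I : Ideal R) (P Q : PrimeSpectrum R) (hPQ : P ≤ Q)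
    (hP : ¬ I ≤ P.asIdeal) (hQ : I ≤ Q.asIdeal) :
    ∃ P' : PrimeSpectrum R, P ≤ P' ∧ P' ≤ Q ∧ ¬ I ≤ P'.asIdeal ∧ Q.asIdeal.height = P'.asIdeal.height + 1 := by
  have hne : {J : Ideal R | J.IsPrime ∧ P.asIdeal ≤ J ∧ J ≤ Q.asIdeal ∧ ¬ I ≤ J}.Nonempty :=
    ⟨P.asIdeal, P.2, le_rfl, hPQ, hP⟩
  obtain ⟨J, ⟨hJp, hPJ, hJQ, hIJ⟩, hmax⟩ := set_has_maximal_iff_noetherian.mpr (inferInstance : IsNoetherianRing R) _ hne
  haveI := hJp
  haveI := Q.2
  let P' : PrimeSpectrum R := ⟨J, hJp⟩
  have hlt : J < Q.asIdeal := lt_of_le_of_ne hJQ fun he => hIJ (he ▸ hQ)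
  obtain ⟨y, hyI, hyJ⟩ := SetLike.not_le_iff_exists.mp hIJ
  haveI : IsDomain (R ⧸ J) := Ideal.Quotient.isDomain J
  haveI : (Q.asIdeal.map (Ideal.Quotient.mk J)).IsPrime :=
    Ideal.map_isPrime_of_surjective Ideal.Quotient.mk_surjective (by rw [Ideal.mk_ker]; exact hJQ)
  have hQc : (Q.asIdeal.map (Ideal.Quotient.mk J)).comap (Ideal.Quotient.mk J) = Q.asIdeal := by
    rw [Ideal.comap_map_of_surjective _ Ideal.Quotient.mk_surjective, ← RingHom.ker_eq_comap_bot, Ideal.mk_ker,
      sup_eq_left.mpr hJQ]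
  have hbar : (Q.asIdeal.map (Ideal.Quotient.mk J)).height ≤ 1 := by
    refine height_le_one_of_forall _ (y := Ideal.Quotient.mk J y)
      (fun h0 => hyJ (Ideal.Quotient.eq_zero_iff_mem.mp h0)) fun p hp hp0 hpq => ?_
    haveI := hp
    have hJp' : J < p.comap (Ideal.Quotient.mk J) := by
      refine lt_of_le_of_ne ((Ideal.mk_ker (I := J)).symm.le.trans (Ideal.comap_mono bot_le)) fun he => hp0 ?_
      rw [← Ideal.map_comap_of_surjective _ Ideal.Quotient.mk_surjective p, ← he, Ideal.map_quotient_self]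
    have hle : p.comap (Ideal.Quotient.mk J) ≤ Q.asIdeal := hQc ▸ Ideal.comap_mono hpq.le
    by_contra hy
    exact hmax (p.comap (Ideal.Quotient.mk J)) ⟨inferInstance, hPJ.trans hJp'.le, hle, fun hI => hy (hI hyI)⟩ hJp'
  have h1 : Order.height (⟨Q, hJQ⟩ : Set.Ici P') = 1 := by
    refine le_antisymm ?_ ?_
    · rw [show (1 : ℕ∞) = ((1 : ℕ) : ℕ∞) from rfl, Order.height_le_coe_iff]
      intro X hX
      have : X.1 = P' := by
        rcases (show P' ≤ X.1 from X.2).eq_or_lt with he | hlt'
        · exact he.symm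
        · exfalso
          have hXQ : X.1.asIdeal < Q.asIdeal := (show X.1 < Q from hX)
          haveI : (X.1.asIdeal.map (Ideal.Quotient.mk J)).IsPrime :=
            Ideal.map_isPrime_of_surjective Ideal.Quotient.mk_surjective (by rw [Ideal.mk_ker]; exact hlt'.le)
          have hXc : (X.1.asIdeal.map (Ideal.Quotient.mk J)).comap (Ideal.Quotient.mk J) = X.1.asIdeal := by
            rw [Ideal.comap_map_of_surjective _ Ideal.Quotient.mk_surjective, ← RingHom.ker_eq_comap_bot,
              Ideal.mk_ker, sup_eq_left.mpr hlt'.le]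
          have hXlt : X.1.asIdeal.map (Ideal.Quotient.mk J) < Q.asIdeal.map (Ideal.Quotient.mk J) :=
            lt_of_le_of_ne (Ideal.map_mono hXQ.le) fun he => hXQ.ne (by rw [← hXc, he, hQc])
          have hX0 : (⊥ : Ideal (R ⧸ J)) < X.1.asIdeal.map (Ideal.Quotient.mk J) :=
            bot_lt_iff_ne_bot.mpr fun he => by
              have := hXc
              rw [he, ← RingHom.ker_eq_comap_bot, Ideal.mk_ker] at this
              exact hlt'.ne (PrimeSpectrum.ext this)
          haveI : (⊥ : Ideal (R ⧸ J)).IsPrime := Ideal.bot_prime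
          have a1 := Ideal.height_add_one_le_of_lt_of_isPrime hX0
          have a2 := Ideal.height_add_one_le_of_lt_of_isPrime hXlt
          exact absurd (le_trans (add_le_add_left (le_trans le_add_self a1) 1) (a2.trans hbar) : (1 : ℕ∞) + 1 ≤ 1)
            (by decide)
      rw [Order.height_eq_zero.mpr (fun Y _ => show X.1 ≤ Y.1 from this.trans_le Y.2)]
      exact zero_lt_one
    · exact le_trans le_add_self (Order.height_add_one_le
        (show (⟨P', Set.mem_Ici.mpr le_rfl⟩ : Set.Ici P') < ⟨Q, hJQ⟩ from hlt))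
  exact ⟨P', hPJ, hJQ, hIJ, by rw [← height_Ici_add hR P' Q hJQ, h1, add_comm]⟩

/-- Every height between `ht P` and `ht Q` occurs. -/
lemma exists_height_between (hR : LocCoh.IsGorensteinRing R) (P Q : PrimeSpectrum R) (hPQ : P ≤ Q) (a b n : ℕ)
    (ha : P.asIdeal.height = a) (hn : Q.asIdeal.height = n) (hab : a ≤ b) (hbn : b ≤ n) :
    ∃ X : PrimeSpectrum R, P ≤ X ∧ X ≤ Q ∧ X.asIdeal.height = b := by
  rcases hbn.eq_or_lt with rfl | hlt
  · exact ⟨Q, hPQ, le_rfl, hn⟩
  have h := height_Ici_add hR P Q hPQ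
  rw [ha, hn] at h
  obtain ⟨e, he⟩ := ENat.ne_top_iff_exists.mp (fun htop => by rw [htop, top_add] at h; exact ENat.top_ne_natCast n h :
    Order.height (⟨Q, hPQ⟩ : Set.Ici P) ≠ ⊤)
  rw [← he] at h
  norm_cast at h
  obtain ⟨Y, hYQ, hY⟩ := (Order.coe_lt_height_iff (x := (⟨Q, hPQ⟩ : Set.Ici P)) (by rw [← he]; exact ENat.natCast_lt_top e)
    (n := b - a)).mp (by rw [← he]; exact_mod_cast (show b - a < e by omega))
  refine ⟨Y.1, Y.2, hYQ.le, ?_⟩
  have hY' := height_Ici_add hR P Y.1 Y.2
  rw [show Order.height (⟨Y.1, Y.2⟩ : Set.Ici P) = ((b - a : ℕ) : ℕ∞) from hY, ha] at hY'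
  rw [← hY']
  norm_cast
  omega

/-- A series in a localisation at `Q`, lifted: heights bound the dimension of the support. -/
lemma supportDim_localized_lt (Q : Ideal R) [Q.IsPrime] (N : Type u) [AddCommGroup N] [Module R N]
    (b n : ℕ) (hn : Q.height = n) (hb : b < n)
    (hsupp : ∀ P : PrimeSpectrum R, P ∈ Module.support R N → P.asIdeal ≤ Q → (b : ℕ∞) < P.asIdeal.height) :
    Module.supportDim (Localization.AtPrime Q) (LocalizedModule Q.primeCompl N) < ((n - b : ℕ) : WithBot ℕ∞) := by
  let L := Localization.AtPrime Q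
  let N' := LocalizedModule Q.primeCompl N
  have key : Module.supportDim L N' ≤ ((n - b - 1 : ℕ) : WithBot ℕ∞) := by
    refine iSup_le fun s => ?_
    have hup : ∀ k : Fin (s.length + 1),
        ((k.val : ℕ∞) + (s 0).1.asIdeal.height) ≤ (s k).1.asIdeal.height := by
      intro k
      induction k using Fin.induction with
      | zero => simp
      | succ k ih =>
        have hlt : (s k.castSucc).1.asIdeal < (s k.succ).1.asIdeal := s.step k
        refine le_trans ?_ (Ideal.height_add_one_le_of_lt_of_isPrime hlt)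
        rw [Fin.val_succ, Nat.cast_add, Nat.cast_one, add_right_comm]
        exact add_le_add ih le_rfl
    have hP := (s 0).2
    let P : PrimeSpectrum R := ⟨(s 0).1.asIdeal.comap (algebraMap R L), inferInstance⟩
    have hPQ : P.asIdeal ≤ Q := fun x hx => by
      by_contra hx'
      exact (s 0).1.2.ne_top (Ideal.eq_top_of_isUnit_mem _ hx (IsLocalization.map_units L (⟨x, hx'⟩ : Q.primeCompl)))
    have hPN : P ∈ Module.support R N := by
      by_contra hPN
      rw [Module.notMem_support_iff'] at hPN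
      refine Module.notMem_support_iff'.mpr (fun z => ?_) hP
      induction z using LocalizedModule.induction_on with
      | h m t =>
        obtain ⟨r, hr, hrm⟩ := hPN m
        exact ⟨algebraMap R L r, hr, by
          rw [algebraMap_smul, LocalizedModule.smul'_mk, hrm, LocalizedModule.zero_mk]⟩
    have h0 : (b : ℕ∞) < (s 0).1.asIdeal.height := by
      rw [← IsLocalization.height_under Q.primeCompl]
      exact hsupp P hPN hPQ
    have hlast : (s (Fin.last _)).1.asIdeal.height ≤ (n : ℕ∞) := by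
      rw [← IsLocalization.height_under Q.primeCompl, ← hn]
      refine Ideal.height_mono fun x hx => ?_
      by_contra hx'
      exact (s (Fin.last _)).1.2.ne_top
        (Ideal.eq_top_of_isUnit_mem _ hx (IsLocalization.map_units L (⟨x, hx'⟩ : Q.primeCompl)))
    have hall := (hup (Fin.last _)).trans hlast
    obtain ⟨e, he⟩ := exists_height_eq (s 0).1.asIdeal
    rw [he] at hall h0
    rw [Fin.val_last] at hall
    norm_cast at hall h0
    exact_mod_cast (show s.length ≤ n - b - 1 by omega)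
  refine lt_of_le_of_lt key ?_
  exact_mod_cast (show n - b - 1 < n - b by omega)

open CategoryTheory in
/-- `Ext^b(N, R)` vanishes if the support of `N` avoids the primes of height `b` and `N` is killed nowhere lower. -/
theorem subsingleton_ext_of_height_ne (hR : LocCoh.IsGorensteinRing R) (N : Type u) [AddCommGroup N] [Module R N]
    [Module.Finite R N] (b : ℕ)
    (h : ∀ P : PrimeSpectrum R, P ∈ Module.support R N → P.asIdeal.height ≠ b) :
    Subsingleton (Abelian.Ext (ModuleCat.of R N) (ModuleCat.of R R) b) := by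
  refine (Module.support_eq_empty_iff (R := R)).mp (Set.eq_empty_iff_forall_notMem.mpr fun Q => ?_)
  rw [Module.notMem_support_iff]
  obtain ⟨n, hn⟩ := exists_height_eq Q.asIdeal
  rcases lt_or_ge n b with hnb | hnb
  · exact subsingleton_localized_ext_of_height_lt hR Q.asIdeal N b n hn hnb
  rw [subsingleton_localized_ext_iff hR Q.asIdeal N b (n - b) n hn (by omega)]
  have habove : ∀ P : PrimeSpectrum R, P ∈ Module.support R N → P.asIdeal ≤ Q.asIdeal →
      (b : ℕ∞) < P.asIdeal.height := by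
    intro P hP hPQ
    obtain ⟨a, ha⟩ := exists_height_eq P.asIdeal
    rw [ha]
    by_contra hab
    rw [not_lt, Nat.cast_le] at hab
    obtain ⟨X, hPX, -, hX⟩ := exists_height_between hR P Q hPQ a b n ha hn hab hnb
    exact h X (Module.mem_support_mono hPX hP) hX
  rcases hnb.eq_or_lt with rfl | hlt
  · haveI : Subsingleton (LocalizedModule Q.asIdeal.primeCompl N) := by
      rw [← Module.notMem_support_iff]
      exact fun hQ => h Q hQ hn
    exact ModuleCat.subsingleton_of_isZero
      ((localCohomology _ _).map_isZero (ModuleCat.isZero_of_subsingleton _))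
  · exact LocCohLib.subsingleton_of_supportDim_lt _ _ _ (supportDim_localized_lt Q.asIdeal N b n hn hlt habove)

end Groth.Agent.FinCritLib
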