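import Groth.Agent.FinCritLib.GammaHom
import Groth.Agent.FinCritLib.Dual
import Groth.Agent.LocCohLib.Change
import Groth.Agent.LocCohLib.Resolution
import Groth.Agent.LocCohLib.ExtComp
import Groth.Agent.GorLib.Ring

/-! Grothendieck's finiteness criterion in a single degree, over a Gorenstein ring with bounded resolutions. -/

set_option autoImplicit false
universe u

open CategoryTheory

namespace Groth.Agent.FinCritLib

variable {R : Type u} [CommRing R]

section Post

variable {Q : ℕ → Type u} [∀ c, AddCommGroup (Q c)] [∀ c, Module R (Q c)]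
variable {T : ℕ → Type u} [∀ b, AddCommGroup (T b)] [∀ b, Module R (T b)]
variable {T' : ℕ → Type u} [∀ b, AddCommGroup (T' b)] [∀ b, Module R (T' b)]
variable (dQ : ∀ c, Q (c + 1) →ₗ[R] Q c) (dT : ∀ b, T b →ₗ[R] T (b + 1)) (dT' : ∀ b, T' b →ₗ[R] T' (b + 1))

/-- Change of the target. -/
def post (ι : ∀ b, T' b →ₗ[R] T b) : Amb R Q T' →ₗ[R] Amb R Q T where
  toFun f := fun c b => ι b ∘ₗ f c b
  map_add' f g := funext fun c => funext fun b => LinearMap.comp_add _ _ _
  map_smul' r f := funext fun c => funext fun b => LinearMap.comp_smul _ _ _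

lemma tD_post (ι : ∀ b, T' b →ₗ[R] T b) (hι : ∀ b, ι (b + 1) ∘ₗ dT' b = dT b ∘ₗ ι b) (f : Amb R Q T') :
    tD dQ dT (post ι f) = post ι (tD dQ dT' f) := by
  funext c b
  rcases c with _ | c <;> rcases b with _ | b <;>
    simp [tD_apply, tpart, spart, post, LinearMap.comp_add, LinearMap.comp_smul, ← LinearMap.comp_assoc, hι]

lemma eq_sum_single {m : ℕ} (f : Amb R Q T) (hf : f ∈ deg R Q T m) :
    f = ∑ c ∈ Finset.range (m + 1), single c (m - c) (f c (m - c)) := by
  funext c b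
  rw [Finset.sum_apply, Finset.sum_apply]
  by_cases h : c + b = m
  · obtain rfl : b = m - c := by omega
    rw [Finset.sum_eq_single c (fun c' _ hc' => single_ne _ (Or.inl hc'.symm))
      (fun hc => absurd (Finset.mem_range.mpr (by omega)) hc), single_self]
  · rw [hf c b h, Finset.sum_eq_zero fun c' hc' => single_ne _ ?_]
    have := Finset.mem_range.mp hc'
    omega

/-- An element of some degree with torsion values is torsion. -/
lemma mem_torsionSub_of_values [hQ : ∀ c, Module.Finite R (Q c)] (I : Ideal R) {m : ℕ} (f : Amb R Q T)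
    (hf : f ∈ deg R Q T m) (h : ∀ c b x, f c b x ∈ DRing.torsionSub I (T b)) :
    f ∈ DRing.torsionSub I (Amb R Q T) := by
  rw [eq_sum_single f hf]
  refine Submodule.sum_mem _ fun c _ => ?_
  obtain ⟨n, hn⟩ := LocCohLib.exists_pow_smul_eq_zero_of_fg I (P := LinearMap.range (f c (m - c)))
    (by rw [LinearMap.range_eq_map]; exact Submodule.FG.map _ Module.Finite.fg_top)
    (by rintro _ ⟨x, rfl⟩; exact h c (m - c) x)
  refine ⟨n, fun a ha => funext fun c' => funext fun b' => ?_⟩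
  change a • single c (m - c) (f c (m - c)) c' b' = 0
  by_cases h' : c' = c ∧ b' = m - c
  · obtain ⟨rfl, rfl⟩ := h'
    rw [single_self]
    exact LinearMap.ext fun x => hn a ha _ ⟨x, rfl⟩
  · rw [single_ne _ (by omega), smul_zero]

lemma values_of_mem_torsionSub (I : Ideal R) (f : Amb R Q T) (hf : f ∈ DRing.torsionSub I (Amb R Q T)) (c b : ℕ)
    (x : Q c) : f c b x ∈ DRing.torsionSub I (T b) := by
  obtain ⟨n, hn⟩ := hf
  exact ⟨n, fun a ha => LinearMap.congr_fun (congrFun (congrFun (hn a ha) c) b) x⟩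

lemma mem_torsionSub_map {X Y : Type u} [AddCommGroup X] [Module R X] [AddCommGroup Y] [Module R Y] (I : Ideal R)
    (g : X →ₗ[R] Y) {x : X} (hx : x ∈ DRing.torsionSub I X) : g x ∈ DRing.torsionSub I Y := by
  obtain ⟨n, hn⟩ := hx
  exact ⟨n, fun a ha => by rw [← map_smul, hn a ha, map_zero]⟩

lemma mem_torsionSub_sub {X : Type u} [AddCommGroup X] [Module R X] (I : Ideal R) (W : Submodule R X) (x : W)
    (hx : x.1 ∈ DRing.torsionSub I X) : x ∈ DRing.torsionSub I W := by
  obtain ⟨n, hn⟩ := hx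
  exact ⟨n, fun a ha => Subtype.ext (hn a ha)⟩

end Post

variable [IsNoetherianRing R] {M : ModuleCat.{u} R} (P : ProjectiveResolution M) (D : ℕ)
variable (Jr : InjectiveResolution (ModuleCat.of R R)) (I : Ideal R)

/-- The injective resolution, elementwise. -/
abbrev JT (b : ℕ) : Type u := Jr.cocomplex.X b

/-- Its differential. -/
noncomputable abbrev jd (b : ℕ) : JT Jr b →ₗ[R] JT Jr (b + 1) := (Jr.cocomplex.d b (b + 1)).hom

omit [IsNoetherianRing R] in
lemma jd_comp (b : ℕ) : jd Jr (b + 1) ∘ₗ jd Jr b = 0 :=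
  LinearMap.ext fun x => congr($(Jr.cocomplex.d_comp_d b (b + 1) (b + 1 + 1)).hom x)

omit [IsNoetherianRing R] in
lemma jt_injective (b : ℕ) : Module.Injective R (JT Jr b) := by
  haveI : Injective (Jr.cocomplex.X b) := Jr.injective b
  exact Module.injective_module_of_injective_object R _

/-- The augmentation of the resolution of `R`. -/
noncomputable def jε : R →ₗ[R] JT Jr 0 := (Jr.ι.f 0).hom

omit [IsNoetherianRing R] in
lemma jε_injective : Function.Injective (jε Jr) := LocCohLib.ι_zero_injective Jr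

omit [IsNoetherianRing R] in
lemma jε_exists (x : JT Jr 0) (h : jd Jr 0 x = 0) : ∃ r, jε Jr r = x := LocCohLib.exists_ι_zero Jr x h

omit [IsNoetherianRing R] in
lemma jd_jε (r : R) : jd Jr 0 (jε Jr r) = 0 := by
  exact congr($(Jr.ι_f_zero_comp_complex_d).hom r)

variable (hfin : ∀ k, Module.Finite R (P.complex.X k)) (hzero : ∀ k, D < k → Subsingleton (P.complex.X k))

include hfin in
/-- Everything reduces to evaluations. -/
lemma exists_eval (m : ℕ) (f : Amb R (RQ P D) (JT Jr)) (hf : f ∈ cyc (rdQ P D) (jd Jr) m) :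
    ∃ h ∈ pre R (RQ P D) (JT Jr) m, ∃ x, re P D m x = 0 ∧
      f = tD (rdQ P D) (jd Jr) h + single m 0 ((jε Jr) ∘ₗ Module.Dual.eval R (RX P D m) x) := by
  obtain ⟨h, hh, g, hg⟩ := exists_reduce (rdQ P D) (jd Jr) (rdQ_comp P D) (jd_comp Jr)
    (fun c => (finite_RQ P D hfin c).2) (jε Jr) (jε_exists Jr)
    (fun b => LocCohLib.resolution_exact Jr b) m f hf.1
    fun c b => by rw [show tD (rdQ P D) (jd Jr) f = 0 from hf.2]; rfl
  have h2 : g ∘ₗ rdQ P D m = 0 := by
    have h0 : tD (rdQ P D) (jd Jr) (single m 0 ((jε Jr) ∘ₗ g)) = 0 := by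
      have := congrArg (tD (rdQ P D) (jd Jr)) hg
      rwa [map_add, show tD (rdQ P D) (jd Jr) f = 0 from hf.2, tD_tD _ _ (rdQ_comp P D) (jd_comp Jr), zero_add,
        eq_comm] at this
    have h1 := congrFun (congrFun h0 (m + 1)) 0
    rw [tD_single_down] at h1
    refine LinearMap.ext fun φ => jε_injective Jr ?_
    simpa [sg] using LinearMap.congr_fun h1 φ
  obtain ⟨x, hx, rfl⟩ := exists_cycle P D hfin g h2
  exact ⟨h, hh, x, hx, hg⟩

omit [IsNoetherianRing R] in
lemma tD_single_eval (c : ℕ) (y : RX P D c) :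
    tD (rdQ P D) (jd Jr) (single c 0 ((jε Jr) ∘ₗ Module.Dual.eval R (RX P D c) y)) =
      single (c + 1) 0 ((jε Jr) ∘ₗ Module.Dual.eval R (RX P D (c + 1)) (re P D c y)) := by
  funext c' b'
  by_cases h : c' = c + 1 ∧ b' = 0
  · obtain ⟨rfl, rfl⟩ := h
    rw [tD_single_down, single_self]
    refine LinearMap.ext fun φ => ?_
    simp [sg]
    rfl
  · rw [single_ne _ (by omega)]
    by_cases h' : c' = c ∧ b' = 0 + 1
    · obtain ⟨rfl, rfl⟩ := h'
      rw [tD_single_right]
      exact LinearMap.ext fun φ => jd_jε Jr _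
    · exact tD_single_ne _ _ _ _ _ _ _ (by omega) (by omega)

include hfin hzero in
/-- Exactness away from `D`. -/
lemma cyc_le_bdy (m : ℕ) (hm : m ≠ D) : cyc (rdQ P D) (jd Jr) m ≤ bdy (rdQ P D) (jd Jr) m := by
  intro f hf
  obtain ⟨h, hh, x, hx, rfl⟩ := exists_eval P D Jr hfin m f hf
  refine add_mem ⟨h, hh, rfl⟩ ?_
  rcases m with _ | c
  · rw [re_injective P D hzero (Nat.pos_of_ne_zero (Ne.symm hm)) x hx, map_zero, LinearMap.comp_zero,
      show single 0 0 (0 : RQ P D 0 →ₗ[R] JT Jr 0) = 0 from by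
        funext c b
        by_cases h : c = 0 ∧ b = 0
        · obtain ⟨rfl, rfl⟩ := h; rw [single_self]; rfl
        · rw [single_ne _ (by omega)]; rfl]
    exact zero_mem _
  · obtain ⟨y, rfl⟩ := re_exact P D hzero hm x hx
    exact ⟨_, single_mem_pre _ (by omega), tD_single_eval P D Jr c y⟩

include hfin hzero in
/-- The class of a generator. -/
lemma exists_iota : ∃ ι : (M : Type u) →ₗ[R]
      (deg R (RQ P D) (JT Jr) D ⧸ (bdy (rdQ P D) (jd Jr) D).comap (deg R (RQ P D) (JT Jr) D).subtype),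
    Function.Injective ι ∧ (∀ m, ∀ f : deg R (RQ P D) (JT Jr) D, Submodule.Quotient.mk f = ι m →
      tD (rdQ P D) (jd Jr) f.1 = 0) ∧
    ∀ f : deg R (RQ P D) (JT Jr) D, tD (rdQ P D) (jd Jr) f.1 = 0 → ∃ m, ι m = Submodule.Quotient.mk f := by
  obtain ⟨p, hp, hp0, hpk⟩ := exists_end P D hzero
  let B := (bdy (rdQ P D) (jd Jr) D).comap (deg R (RQ P D) (JT Jr) D).subtype
  let μ₀ : RX P D D →ₗ[R] deg R (RQ P D) (JT Jr) D :=
    { toFun := fun x => ⟨single D 0 ((jε Jr) ∘ₗ Module.Dual.eval R (RX P D D) x), single_mem_deg _ rfl⟩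
      map_add' := fun x y => Subtype.ext (by
        funext c b
        by_cases h : c = D ∧ b = 0
        · obtain ⟨rfl, rfl⟩ := h; simp [single_self, LinearMap.comp_add]
        · simp [single_ne _ (show c ≠ D ∨ b ≠ 0 by omega)])
      map_smul' := fun r x => Subtype.ext (by
        funext c b
        by_cases h : c = D ∧ b = 0
        · obtain ⟨rfl, rfl⟩ := h; simp [single_self, LinearMap.comp_smul]
        · simp [single_ne _ (show c ≠ D ∨ b ≠ 0 by omega)]) }
  let μ := B.mkQ ∘ₗ μ₀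
  have hre : re P D D = 0 := by
    haveI := subsingleton_RX P D hzero (Nat.lt_succ_self D)
    exact LinearMap.ext fun x => Subsingleton.elim _ _
  have hμ0 : ∀ x, tD (rdQ P D) (jd Jr) (μ₀ x).1 = 0 := fun x => by
    refine (tD_single_eval P D Jr D x).trans ?_
    rw [hre, LinearMap.zero_apply, map_zero, LinearMap.comp_zero]
    funext c b
    by_cases h : c = D + 1 ∧ b = 0
    · obtain ⟨rfl, rfl⟩ := h; rw [single_self]; rfl
    · rw [single_ne _ (by omega)]; rfl
  have hker : LinearMap.ker μ = LinearMap.ker p := by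
    ext x
    simp only [LinearMap.mem_ker]
    constructor
    · intro hx
      obtain ⟨h, hh, hhx⟩ := (Submodule.Quotient.mk_eq_zero _).mp hx
      rcases Nat.eq_zero_or_pos D with h0 | h0
      · subst h0
        rw [show h = 0 from funext fun c => funext fun b => hh c b (by omega), map_zero] at hhx
        have h1 := congrFun (congrFun hhx.symm 0) 0
        simp only [μ₀, Submodule.subtype_apply, LinearMap.coe_mk, AddHom.coe_mk, single_self] at h1
        rw [show x = 0 from (bijective_eval P 0 hfin 0).1 (LinearMap.ext fun φ =>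
          jε_injective Jr (by simpa [eq_comm] using LinearMap.congr_fun h1 φ)), map_zero]
      · obtain ⟨c, rfl⟩ : ∃ c, D = c + 1 := ⟨D - 1, by omega⟩
        rw [SetLike.mem_coe, pre_succ] at hh
        have hDh : ∀ c' b, tD (rdQ P (c + 1)) (jd Jr) h c' (b + 1) = 0 := fun c' b => by
          rw [hhx]
          exact single_ne _ (Or.inr (by omega))
        obtain ⟨h', -, g, hg⟩ := exists_reduce (rdQ P (c + 1)) (jd Jr) (rdQ_comp P _) (jd_comp Jr)
          (fun c' => (finite_RQ P _ hfin c').2) (jε Jr) (jε_exists Jr)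
          (fun b => LocCohLib.resolution_exact Jr b) c h hh hDh
        obtain ⟨y, rfl⟩ := (bijective_eval P (c + 1) hfin c).2 g
        rw [hg, map_add, tD_tD _ _ (rdQ_comp P _) (jd_comp Jr), zero_add, tD_single_eval] at hhx
        have h1 := congrFun (congrFun hhx (c + 1)) 0
        simp only [μ₀, Submodule.subtype_apply, LinearMap.coe_mk, AddHom.coe_mk, single_self] at h1
        rw [show x = re P (c + 1) c y from (bijective_eval P (c + 1) hfin (c + 1)).1 (LinearMap.ext fun φ =>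
          jε_injective Jr (LinearMap.congr_fun h1 φ).symm)]
        exact hp0 c rfl y
    · intro hx
      rcases hpk x hx with rfl | ⟨c, hc, y, rfl⟩
      · exact map_zero μ
      · subst hc
        exact (Submodule.Quotient.mk_eq_zero _).mpr ⟨_, single_mem_pre _ (by omega), tD_single_eval P (c + 1) Jr c y⟩
  let e := p.quotKerEquivOfSurjective hp
  let ι := (LinearMap.ker p).liftQ μ hker.ge ∘ₗ e.symm.toLinearMap
  have hι : ∀ x, ι (p x) = μ x := fun x => by
    change (LinearMap.ker p).liftQ μ hker.ge (e.symm (p x)) = μ x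
    rw [show e.symm (p x) = Submodule.Quotient.mk x from e.injective (by rw [LinearEquiv.apply_symm_apply]; rfl)]
    rfl
  refine ⟨ι, ?_, fun m f hf => ?_, fun f hf => ?_⟩
  · refine (injective_iff_map_eq_zero _).mpr fun m hm => ?_
    obtain ⟨x, rfl⟩ := hp m
    rw [hι] at hm
    exact LinearMap.mem_ker.mp (hker.le hm)
  · obtain ⟨x, rfl⟩ := hp m
    rw [hι] at hf
    obtain ⟨h, -, hh⟩ := (Submodule.Quotient.eq _).mp hf
    rw [show f.1 = tD (rdQ P D) (jd Jr) h + (μ₀ x).1 from eq_add_of_sub_eq hh.symm, map_add,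
      tD_tD _ _ (rdQ_comp P D) (jd_comp Jr), hμ0, zero_add]
  · obtain ⟨h, hh, x, -, hx⟩ := exists_eval P D Jr hfin D f.1 ⟨f.2, hf⟩
    refine ⟨p x, (hι x).trans ((Submodule.Quotient.eq _).mpr ⟨-h, neg_mem hh, ?_⟩)⟩
    change tD (rdQ P D) (jd Jr) (-h) = (μ₀ x).1 - f.1
    rw [hx, map_neg]
    change _ = (μ₀ x).1 - (_ + (μ₀ x).1)
    abel

/-- The modules of the resolution of `M`. -/
noncomputable def KX : ℕ → ModuleCat.{u} R
  | 0 => ModuleCat.of R
      (deg R (RQ P D) (JT Jr) D ⧸ (bdy (rdQ P D) (jd Jr) D).comap (deg R (RQ P D) (JT Jr) D).subtype)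
  | n + 1 => ModuleCat.of R (deg R (RQ P D) (JT Jr) (D + (n + 1)))

omit [IsNoetherianRing R] in
lemma tD_mem (m m' : ℕ) (h : m + 1 = m') (f : deg R (RQ P D) (JT Jr) m) :
    tD (rdQ P D) (jd Jr) f.1 ∈ deg R (RQ P D) (JT Jr) m' :=
  tD_mem_deg _ _ (by subst h; rw [pre_succ]; exact f.2)

/-- The differential. -/
noncomputable def Kd : ∀ n, KX P D Jr n ⟶ KX P D Jr (n + 1)
  | 0 => ModuleCat.ofHom (Submodule.liftQ _
      ((tD (rdQ P D) (jd Jr) ∘ₗ (deg R (RQ P D) (JT Jr) D).subtype).codRestrict _ (tD_mem P D Jr D (D + 1) rfl))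
      fun f hf => by
        obtain ⟨h, -, hh⟩ := hf
        refine LinearMap.mem_ker.mpr (Subtype.ext ?_)
        change tD (rdQ P D) (jd Jr) f.1 = 0
        rw [show f.1 = tD (rdQ P D) (jd Jr) h from hh.symm, tD_tD _ _ (rdQ_comp P D) (jd_comp Jr)])
  | n + 1 => ModuleCat.ofHom ((tD (rdQ P D) (jd Jr) ∘ₗ (deg R (RQ P D) (JT Jr) (D + (n + 1))).subtype).codRestrict _
      (tD_mem P D Jr (D + (n + 1)) (D + (n + 1 + 1)) rfl))

omit [IsNoetherianRing R] in
lemma Kd_comp : ∀ n, Kd P D Jr n ≫ Kd P D Jr (n + 1) = 0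
  | 0 => by
    apply ModuleCat.hom_ext
    exact Submodule.linearMap_qext _ (LinearMap.ext fun f => Subtype.ext (tD_tD _ _ (rdQ_comp P D) (jd_comp Jr) f.1))
  | n + 1 => by
    apply ModuleCat.hom_ext
    exact LinearMap.ext fun f => Subtype.ext (tD_tD _ _ (rdQ_comp P D) (jd_comp Jr) f.1)

include hfin hzero in
lemma exists_resolution : ∃ J : InjectiveResolution M,
    J.cocomplex = CochainComplex.of (KX P D Jr) (Kd P D Jr) (Kd_comp P D Jr) := by
  have hdeg : ∀ m, Module.Injective R (deg R (RQ P D) (JT Jr) m) :=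
    injective_deg (fun c => haveI := (finite_RQ P D hfin c).2; inferInstance) (jt_injective Jr)
  obtain ⟨ι, hι, hι0, hιs⟩ := exists_iota P D Jr hfin hzero
  refine LocCohLib.exists_injectiveResolution (CochainComplex.of (KX P D Jr) (Kd P D Jr) (Kd_comp P D Jr))
    (fun n => ?_) (ModuleCat.ofHom ι) hι (fun x => ?_) (fun n => ?_)
  · rcases n with _ | n
    · haveI := hdeg D
      haveI := injective_bdy (rdQ P D) (jd Jr) hdeg D (fun k hk => cyc_le_bdy P D Jr hfin hzero k (by omega))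
        (rdQ_comp P D) (jd_comp Jr)
      have hle : bdy (rdQ P D) (jd Jr) D ≤ deg R (RQ P D) (JT Jr) D := by
        rintro _ ⟨f, hf, rfl⟩
        exact tD_mem_deg _ _ hf
      haveI : Module.Injective R ((bdy (rdQ P D) (jd Jr) D).comap (deg R (RQ P D) (JT Jr) D).subtype) :=
        InjHullLib.injective_of_retract (Q := bdy (rdQ P D) (jd Jr) D)
          (Submodule.comapSubtypeEquivOfLe hle).toLinearMap (Submodule.comapSubtypeEquivOfLe hle).symm.toLinearMap
          (LinearMap.ext fun x => (Submodule.comapSubtypeEquivOfLe hle).symm_apply_apply x)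
      haveI := injective_quot ((bdy (rdQ P D) (jd Jr) D).comap (deg R (RQ P D) (JT Jr) D).subtype)
      exact Module.injective_object_of_injective_module R _
    · haveI := hdeg (D + (n + 1))
      exact Module.injective_object_of_injective_module R _
  · rw [show (CochainComplex.of (KX P D Jr) (Kd P D Jr) (Kd_comp P D Jr)).d 0 1 = Kd P D Jr 0 from
      CochainComplex.of_d _ _ 0]
    obtain ⟨f, rfl⟩ := Submodule.Quotient.mk_surjective _ x
    constructor
    · intro hf
      exact hιs f (congrArg Subtype.val hf)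
    · rintro ⟨m, hm⟩
      exact Subtype.ext (hι0 m f hm.symm)
  · intro x hx
    rw [show (CochainComplex.of (KX P D Jr) (Kd P D Jr) (Kd_comp P D Jr)).d (n + 1) (n + 2) = Kd P D Jr (n + 1) from
      CochainComplex.of_d _ _ (n + 1)] at hx
    rw [show (CochainComplex.of (KX P D Jr) (Kd P D Jr) (Kd_comp P D Jr)).d n (n + 1) = Kd P D Jr n from
      CochainComplex.of_d _ _ n]
    obtain ⟨h, hh, hhx⟩ := cyc_le_bdy P D Jr hfin hzero (D + (n + 1)) (by omega)
      (show x.1 ∈ cyc (rdQ P D) (jd Jr) (D + (n + 1)) from ⟨x.2, congrArg Subtype.val hx⟩)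
    rw [SetLike.mem_coe, ← Nat.add_assoc, pre_succ] at hh
    rcases n with _ | n
    · exact ⟨Submodule.Quotient.mk ⟨h, hh⟩, Subtype.ext hhx⟩
    · exact ⟨⟨h, hh⟩, Subtype.ext hhx⟩

omit [IsNoetherianRing R] in
lemma exists_cls (J : InjectiveResolution M) (K : CochainComplex (ModuleCat.{u} R) ℕ) (hJ : J.cocomplex = K) (p : ℕ) :
    ∃ cl : LocCohLib.ZI I K (p + 1) →ₗ[R] (LocCoh.H I (p + 1) M : Type u), Function.Surjective cl ∧
      ∀ x : LocCohLib.ZI I K (p + 1), (∃ y ∈ DRing.torsionSub I (K.X p : Type u), (K.d p (p + 1)).hom y = x.1) →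
        cl x = 0 := by
  subst hJ
  exact ⟨LocCohLib.tcls J I (p + 1), LocCohLib.tcls_surjective J I (p + 1),
    fun x hx => (LocCohLib.tcls_eq_zero_iff J I p x).mpr hx⟩

/-- Assembly: `FinMod` in degree `D + i` gives finiteness. -/
lemma finite_of_finMod (p : ℕ) (hfin : ∀ k, Module.Finite R (P.complex.X k))
    (hzero : ∀ k, D < k → Subsingleton (P.complex.X k))
    (h : FinMod (cyc (rdQ P D) (gtd Jr I) (D + (p + 1))) (bdy (rdQ P D) (gtd Jr I) (D + (p + 1)))) :
    Module.Finite R (LocCoh.H I (p + 1) M) := by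
  haveI : ∀ c, Module.Finite R (RQ P D c) := fun c => (finite_RQ P D hfin c).1
  obtain ⟨J, hJ⟩ := exists_resolution P D Jr hfin hzero
  obtain ⟨J', hJ'⟩ : ∃ K, J.cocomplex = K := ⟨_, rfl⟩
  let ι : ∀ b, GT Jr I b →ₗ[R] JT Jr b := fun b => (DRing.torsionSub I _).subtype
  have hι : ∀ b, ι (b + 1) ∘ₗ gtd Jr I b = jd Jr b ∘ₗ ι b := fun b => rfl
  have hlift : ∀ m (f : Amb R (RQ P D) (JT Jr)), f ∈ deg R (RQ P D) (JT Jr) m →
      f ∈ DRing.torsionSub I _ → ∃ f' ∈ deg R (RQ P D) (GT Jr I) m, post ι f' = f := fun m f hf ht =>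
    ⟨fun c b => (f c b).codRestrict _ (values_of_mem_torsionSub I f ht c b),
      fun c b hne => LinearMap.ext fun x => Subtype.ext (by simp [hf c b hne]), rfl⟩
  have hpinj : Function.Injective (post (Q := RQ P D) ι) := fun f g hfg => funext fun c => funext fun b =>
    LinearMap.ext fun x => Subtype.ext (LinearMap.congr_fun (congrFun (congrFun hfg c) b) x)
  have hdeg : ∀ m (f : Amb R (RQ P D) (GT Jr I)), f ∈ deg R (RQ P D) (GT Jr I) m →
      post ι f ∈ deg R (RQ P D) (JT Jr) m ∧ post ι f ∈ DRing.torsionSub I (Amb R (RQ P D) (JT Jr)) := fun m f hf => by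
    have h1 : post ι f ∈ deg R (RQ P D) (JT Jr) m := fun c b hne => LinearMap.ext fun x => by simp [post, hf c b hne]
    exact ⟨h1, mem_torsionSub_of_values I _ h1 fun c b x => (f c b x).2⟩
  obtain ⟨S, hS, hSZ, hSW⟩ := h
  let K := CochainComplex.of (KX P D Jr) (Kd P D Jr) (Kd_comp P D Jr)
  have hd : ∀ n, K.d n (n + 1) = Kd P D Jr n := fun n => CochainComplex.of_d _ _ n
  -- cocycles of `Γ`, as torsion cocycles of the resolution
  let ψ : cyc (rdQ P D) (gtd Jr I) (D + (p + 1)) →ₗ[R] LocCohLib.ZI I K (p + 1) :=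
    ((post ι ∘ₗ (cyc (rdQ P D) (gtd Jr I) (D + (p + 1))).subtype).codRestrict _
      fun f => (hdeg _ f.1 f.2.1).1).codRestrict (LocCohLib.ZI I K (p + 1)) fun f => by
      refine ⟨mem_torsionSub_sub I _ _ (hdeg _ f.1 f.2.1).2, ?_⟩
      rw [SetLike.mem_coe, LinearMap.mem_ker, hd]
      refine Subtype.ext ?_
      change tD (rdQ P D) (jd Jr) (post ι f.1) = 0
      rw [tD_post _ _ _ ι hι, show tD (rdQ P D) (gtd Jr I) f.1 = 0 from f.2.2, map_zero]
  obtain ⟨cl, hcl, hcl0⟩ := exists_cls I J K hJ p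
  refine Module.Finite.of_fg_top ?_
  have hfgS : (S.comap (cyc (rdQ P D) (gtd Jr I) (D + (p + 1))).subtype).FG := by
    refine Submodule.fg_of_fg_map_injective (cyc (rdQ P D) (gtd Jr I) (D + (p + 1))).subtype Subtype.val_injective ?_
    rw [Submodule.map_comap_eq, Submodule.range_subtype, inf_eq_right.mpr hSZ]
    exact hS
  convert hfgS.map (cl ∘ₗ ψ)
  refine (Submodule.eq_top_iff'.mpr fun z => ?_).symm
  obtain ⟨x, rfl⟩ := hcl z
  obtain ⟨f', hf', hf'x⟩ := hlift _ _ x.1.2 (mem_torsionSub_map I (deg R (RQ P D) (JT Jr) (D + (p + 1))).subtype x.2.1)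
  have hcyc : f' ∈ cyc (rdQ P D) (gtd Jr I) (D + (p + 1)) := by
    refine ⟨hf', hpinj ?_⟩
    rw [← tD_post _ _ _ ι hι, hf'x, map_zero]
    have hx := x.2.2
    rw [SetLike.mem_coe, LinearMap.mem_ker, hd] at hx
    exact congrArg Subtype.val hx
  obtain ⟨s, hs, _, ⟨h', hh', rfl⟩, hsum⟩ := Submodule.mem_sup.mp (hSW hcyc)
  refine ⟨⟨s, hSZ hs⟩, hs, ?_⟩
  rw [LinearMap.comp_apply, eq_comm, ← sub_eq_zero, ← map_sub]
  refine hcl0 _ ?_
  rw [SetLike.mem_coe, ← Nat.add_assoc, pre_succ] at hh'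
  obtain ⟨hp1, hp2⟩ := hdeg _ h' hh'
  have hval : tD (rdQ P D) (jd Jr) (post ι h') =
      (deg R (RQ P D) (JT Jr) (D + (p + 1))).subtype x.1 - post ι s := by
    refine Eq.trans ?_ (congrArg (fun f => f - post ι s) hf'x)
    rw [tD_post _ _ _ ι hι]
    simp only [← hsum, map_add, add_sub_cancel_left]
  rcases p with _ | p
  · refine ⟨Submodule.Quotient.mk ⟨post ι h', hp1⟩,
      mem_torsionSub_map I (Submodule.mkQ _) (mem_torsionSub_sub I _ ⟨post ι h', hp1⟩ hp2), ?_⟩
    rw [hd]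
    exact Subtype.ext hval
  · refine ⟨⟨post ι h', hp1⟩, mem_torsionSub_sub I _ ⟨post ι h', hp1⟩ hp2, ?_⟩
    rw [hd]
    exact Subtype.ext hval

end Groth.Agent.FinCritLib
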